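import Mathlib
import Cfsg.Agent.Lib.Cores.Fitting

/-!
Solvable groups acting on small elementary abelian groups.
-/

set_option autoImplicit false
set_option linter.style.haveILetI false
set_option linter.unusedSectionVars false
set_option synthInstance.maxSize 4096

namespace CfsgLib.ClassLowerSharp

open Module Cfsg

universe u v

/-- Automorphisms of a small elementary abelian group as linear maps. -/
theorem exists_hom_end {q : ℕ} [Fact q.Prime] {W : Type v} [CommGroup W] [Finite W]
    (hW : ∀ w : W, w ^ q = 1) {N : ℕ} (hN : Nat.card W ≤ q ^ N) :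
    ∃ f : MulAut W →* Module.End (ZMod q) (Fin N → ZMod q), Function.Injective f := by
  have : Module (ZMod q) (Additive W) := AddCommGroup.zmodModule fun w => by
    show Additive.ofMul (w.toMul ^ q) = 0
    rw [hW]; rfl
  have : Module.Finite (ZMod q) (Additive W) := Module.Finite.of_finite
  set n := finrank (ZMod q) (Additive W) with hn
  have hcard : Nat.card W = q ^ n := by
    rw [← Nat.card_congr (Additive.ofMul (α := W)).symm,
      Module.natCard_eq_pow_finrank (K := ZMod q) (V := Additive W), Nat.card_zmod]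
  have hnN : n ≤ N := (Nat.pow_le_pow_iff_right (Fact.out : q.Prime).one_lt).mp (hcard ▸ hN)
  obtain ⟨e⟩ : Nonempty ((Additive W × (Fin (N - n) → ZMod q)) ≃ₗ[ZMod q] (Fin N → ZMod q)) :=
    FiniteDimensional.nonempty_linearEquiv_of_finrank_eq (by
      rw [Module.finrank_prod, Module.finrank_fin_fun, Module.finrank_fin_fun, ← hn]; omega)
  let g : MulAut W → (Additive W →ₗ[ZMod q] Additive W) := fun φ =>
    (MonoidHom.toAdditive φ.toMonoidHom).toZModLinearMap q
  have hg : ∀ (φ : MulAut W) (w : Additive W), g φ w = Additive.ofMul (φ w.toMul) :=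
    fun φ w => rfl
  let h : MulAut W →* Module.End (ZMod q) (Additive W × (Fin (N - n) → ZMod q)) :=
    { toFun := fun φ => LinearMap.prodMap (g φ) LinearMap.id
      map_one' := LinearMap.ext fun x => Prod.ext (by simp [hg]) rfl
      map_mul' := fun a b => LinearMap.ext fun x => Prod.ext (by simp [hg]) rfl }
  refine ⟨(e.conjAlgEquiv (ZMod q)).toAlgHom.toMonoidHom.comp h,
    (e.conjAlgEquiv (ZMod q)).injective.comp fun a b hab => MulEquiv.ext fun w => ?_⟩
  have h1 := congrArg Prod.fst (LinearMap.congr_fun hab (Additive.ofMul w, 0))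
  exact Additive.ofMul.injective h1

theorem card_dvd_GL {q : ℕ} [Fact q.Prime] {X : Type u} [Group X] {N : ℕ}
    (f : X →* Module.End (ZMod q) (Fin N → ZMod q)) (hf : Function.Injective f) :
    Nat.card X ∣ ∏ i : Fin N, (q ^ N - q ^ (i : ℕ)) := by
  have h := Matrix.card_GL_field (𝔽 := ZMod q) N
  rw [ZMod.card] at h
  rw [← h]
  exact Subgroup.card_dvd_of_injective
    ((Units.mapEquiv (LinearMap.toMatrixAlgEquiv'.toMulEquiv :
      Module.End (ZMod q) (Fin N → ZMod q) ≃* _)).toMonoidHom.comp f.toHomUnits)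
    ((Units.mapEquiv _).injective.comp fun a b hab => hf (congrArg Units.val hab))

/-- Commuting involutions of a plane over the field of three elements. -/
theorem three_involutions : ∀ a : Matrix (Fin 2) (Fin 2) (ZMod 3), a * a = 1 →
    ∀ b : Matrix (Fin 2) (Fin 2) (ZMod 3), b * b = 1 ∧ a * b = b * a →
    ∀ c : Matrix (Fin 2) (Fin 2) (ZMod 3), c * c = 1 ∧ a * c = c * a ∧ b * c = c * b →
      a = 1 ∨ b = 1 ∨ b = a ∨ c = 1 ∨ c = a ∨ c = b ∨ c = a * b := by
  decide +kernel

theorem card_le_four_of_involutions {P : Type u} [Group P] [Finite P] (hP : ∀ a : P, a * a = 1)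
    (f : P →* Module.End (ZMod 3) (Fin 2 → ZMod 3)) (hf : Function.Injective f) :
    Nat.card P ≤ 4 := by
  classical
  by_contra! h
  have hcomm : ∀ a b : P, a * b = b * a := fun a b => by
    have ha := inv_eq_of_mul_eq_one_right (hP a)
    have hb := inv_eq_of_mul_eq_one_right (hP b)
    have hab := inv_eq_of_mul_eq_one_right (hP (a * b))
    rw [mul_inv_rev, ha, hb] at hab
    exact hab.symm
  have : Fintype P := Fintype.ofFinite P
  rw [Nat.card_eq_fintype_card, ← Finset.card_univ] at h
  obtain ⟨a, -, ha⟩ := Finset.exists_mem_notMem_of_card_lt_card (s := ({1} : Finset P))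
    (t := Finset.univ) (lt_of_le_of_lt (Finset.card_singleton _).le (by omega))
  obtain ⟨b, -, hb⟩ := Finset.exists_mem_notMem_of_card_lt_card (s := ({1, a} : Finset P))
    (t := Finset.univ) (lt_of_le_of_lt Finset.card_le_two (by omega))
  obtain ⟨c, -, hc⟩ := Finset.exists_mem_notMem_of_card_lt_card (s := ({1, a, b, a * b} : Finset P))
    (t := Finset.univ) (lt_of_le_of_lt Finset.card_le_four (by omega))
  let m := (LinearMap.toMatrixAlgEquiv' (R := ZMod 3) (n := Fin 2)).toMonoidHom.comp f
  have hm : Function.Injective m := LinearMap.toMatrixAlgEquiv'.injective.comp hf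
  simp only [Finset.mem_singleton, Finset.mem_insert, not_or] at ha hb hc
  have key := three_involutions (m a) (by rw [← map_mul, hP, map_one]) (m b)
    ⟨by rw [← map_mul, hP, map_one], by rw [← map_mul, ← map_mul, hcomm]⟩ (m c)
    ⟨by rw [← map_mul, hP, map_one], by rw [← map_mul, ← map_mul, hcomm],
      by rw [← map_mul, ← map_mul, hcomm]⟩
  rw [← map_one m, ← map_mul m, hm.eq_iff, hm.eq_iff, hm.eq_iff, hm.eq_iff, hm.eq_iff, hm.eq_iff,
    hm.eq_iff] at key
  tauto

section Four

variable {X : Type u} [Group X] [Finite X] (f : X →* Module.End (ZMod 2) (Fin 4 → ZMod 2))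
  (hf : Function.Injective f)
include hf

theorem eq_one_of_fix {g : X} (h : ∀ x, f g x = x) : g = 1 :=
  hf (by rw [map_one]; exact LinearMap.ext h)

/-- No cyclic subgroup of order `7 m`, `m` three or five. -/
theorem not_commute_seven {g c : X} (hg : g ^ 7 = 1) (hg1 : g ≠ 1) {m : ℕ} (hm : m.Prime)
    (hm3 : 3 ≤ m) (hm7 : m ≠ 7) (hc : c ^ m = 1) (hc1 : c ≠ 1) (hgc : Commute g c) : False := by
  have hor : ∀ x, f g x = x ∨ f c x = x := by
    intro x
    have hlt : Fintype.card (Fin 4 → ZMod 2) < Fintype.card (Fin (7 * m)) := by simp; omega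
    obtain ⟨i, j, hij, he⟩ := Fintype.exists_ne_map_eq_of_card_lt
      (fun i : Fin (7 * m) => f ((g * c) ^ (i : ℕ)) x) hlt
    wlog hlt' : (i : ℕ) < j generalizing i j
    · exact this j i hij.symm he.symm (lt_of_le_of_ne (not_lt.mp hlt') fun h => hij (Fin.ext h.symm))
    have hd : f ((g * c) ^ ((j : ℕ) - i)) x = x := by
      have hinj : Function.Injective (f ((g * c) ^ (i : ℕ))) := fun y z e => by
        have := congrArg (f ((g * c) ^ (i : ℕ))⁻¹) e
        rwa [← Module.End.mul_apply, ← map_mul, inv_mul_cancel, map_one, Module.End.one_apply,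
          ← Module.End.mul_apply, ← map_mul, inv_mul_cancel, map_one, Module.End.one_apply] at this
      refine hinj ?_
      rw [← Module.End.mul_apply, ← map_mul, ← pow_add, Nat.add_sub_cancel' hlt'.le]
      exact he.symm
    set d := (j : ℕ) - i with hddef
    have hpow : ∀ (y : X) (n : ℕ), f y x = x → f (y ^ n) x = x := by
      intro y n hy
      induction n with
      | zero => simp
      | succ n ih => rw [pow_succ, map_mul, Module.End.mul_apply, hy, ih]
    by_cases h7 : 7 ∣ d
    · -- the second element fixes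
      right
      have hmd : ¬ m ∣ d := fun h => by
        have := Nat.le_of_dvd (by omega) (Nat.Coprime.mul_dvd_of_dvd_of_dvd
          ((Nat.coprime_primes (by norm_num) hm).mpr (Ne.symm hm7)) h7 h)
        have := j.2
        omega
      obtain ⟨e, he'⟩ := exists_pow_eq_self_of_coprime (x := c) (n := d)
        (((Nat.Prime.coprime_iff_not_dvd hm).mpr hmd).symm.of_dvd_right
          (orderOf_dvd_of_pow_eq_one hc))
      have h1 : (g * c) ^ d = c ^ d := by
        rw [hgc.mul_pow]
        obtain ⟨t, ht⟩ := h7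
        rw [ht, pow_mul g, hg, one_pow, one_mul]
      rw [← he', ← h1]
      exact hpow _ e hd
    · left
      have h1 : ((g * c) ^ d) ^ m = g ^ (d * m) := by
        rw [← pow_mul, hgc.mul_pow, mul_comm d m, pow_mul c, hc, one_pow, mul_one]
      have h7m : ¬ 7 ∣ d * m := fun h => by
        rcases (Nat.Prime.dvd_mul (by norm_num)).mp h with h | h
        · exact h7 h
        · exact hm7 ((Nat.prime_dvd_prime_iff_eq (by norm_num) hm).mp h).symm
      obtain ⟨e, he'⟩ := exists_pow_eq_self_of_coprime (x := g) (n := d * m)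
        (((Nat.Prime.coprime_iff_not_dvd (by norm_num)).mpr h7m).symm.of_dvd_right
          (orderOf_dvd_of_pow_eq_one hg))
      rw [← he', ← h1]
      exact hpow _ e (hpow _ m hd)
  obtain ⟨x, hx⟩ := not_forall.mp fun h => hg1 (eq_one_of_fix f hf h)
  obtain ⟨y, hy⟩ := not_forall.mp fun h => hc1 (eq_one_of_fix f hf h)
  have hxc := (hor x).resolve_left hx
  have hyg := (hor y).resolve_right hy
  rcases hor (x + y) with h | h <;> rw [map_add] at h
  · rw [hyg, add_left_inj] at h; exact hx h
  · rw [hxc, add_right_inj] at h; exact hy h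

theorem fixed_or {g : X} (hg : g ^ 5 = 1) (W : Submodule (ZMod 2) (Fin 4 → ZMod 2))
    (hW : ∀ x ∈ W, f g x ∈ W) (hfix : ∀ x ∈ W, f g x = x → x = 0) : W = ⊥ ∨ W = ⊤ := by
  classical
  have : Fact (Nat.Prime 5) := ⟨by norm_num⟩
  have hz : IsPGroup 5 (Subgroup.zpowers g) := by
    intro a
    obtain ⟨n, hn⟩ := Subgroup.mem_zpowers_iff.mp a.2
    refine ⟨1, Subtype.ext ?_⟩
    show (a : X) ^ 5 ^ 1 = 1
    rw [pow_one, ← hn, ← zpow_natCast, ← zpow_mul, mul_comm, zpow_mul, zpow_natCast, hg, one_zpow]
  have hWn : ∀ n : ℕ, ∀ x ∈ W, f (g ^ n) x ∈ W := by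
    intro n
    induction n with
    | zero => simp
    | succ n ih =>
      intro x hx
      rw [pow_succ, map_mul, Module.End.mul_apply]
      exact ih _ (hW x hx)
  have hWz : ∀ a : Subgroup.zpowers g, ∀ x ∈ W, f (a : X) x ∈ W := fun a x hx => by
    obtain ⟨n, hn⟩ := (mem_powers_iff_mem_zpowers).mpr a.2
    exact hn ▸ hWn n x hx
  let _ : MulAction (Subgroup.zpowers g) W :=
    { smul := fun a x => ⟨f (a : X) x, hWz a x x.2⟩
      one_smul := fun x => Subtype.ext (show f 1 (x : Fin 4 → ZMod 2) = x by
        rw [map_one]; rfl)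
      mul_smul := fun a b x => Subtype.ext (show f ((a : X) * b) (x : Fin 4 → ZMod 2) = _ by
        rw [map_mul]; rfl) }
  have h := hz.card_modEq_card_fixedPoints W
  have h1 : Nat.card (MulAction.fixedPoints (Subgroup.zpowers g) W) = 1 := by
    rw [Nat.card_eq_one_iff_unique]
    refine ⟨⟨fun a b => Subtype.ext (Subtype.ext ?_)⟩, ⟨⟨0, fun a => Subtype.ext (map_zero _)⟩⟩⟩
    have ha := congrArg Subtype.val (a.2 ⟨g, Subgroup.mem_zpowers g⟩)
    have hb := congrArg Subtype.val (b.2 ⟨g, Subgroup.mem_zpowers g⟩)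
    rw [hfix _ a.1.2 ha, hfix _ b.1.2 hb]
  rw [h1, Module.natCard_eq_pow_finrank (K := ZMod 2) (V := W), Nat.card_zmod] at h
  have hle := Submodule.finrank_le W
  rw [Module.finrank_fin_fun] at hle
  rcases Nat.eq_zero_or_pos (finrank (ZMod 2) W) with h0 | h0
  · exact Or.inl (Submodule.finrank_eq_zero.mp h0)
  · right
    refine Submodule.eq_top_of_finrank_eq ?_
    rw [Module.finrank_fin_fun]
    interval_cases hh : finrank (ZMod 2) W <;> simp_all [Nat.ModEq]

/-- No abelian-by-commuting subgroup of order `45`. -/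
theorem card_commuting_five {g : X} (hg : g ^ 5 = 1) (hg1 : g ≠ 1) (B : Subgroup X)
    (hB : ∀ c ∈ B, c ^ 9 = 1) (hcomm : ∀ c ∈ B, Commute g c) : Nat.card B ≤ 3 := by
  classical
  have hfix5 : ∀ x, f g x = x → x = 0 := by
    intro x hx
    by_contra hx0
    have : Fact (Nat.Prime 5) := ⟨by norm_num⟩
    let Y := LinearMap.ker (f g - 1)
    have hY : ∀ y, y ∈ Y ↔ f g y = y := fun y => by
      simp [Y, LinearMap.mem_ker, sub_eq_zero]
    have hzg : IsPGroup 5 (Subgroup.zpowers g) := by
      intro a
      obtain ⟨n, hn⟩ := Subgroup.mem_zpowers_iff.mp a.2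
      refine ⟨1, Subtype.ext ?_⟩
      show (a : X) ^ 5 ^ 1 = 1
      rw [pow_one, ← hn, ← zpow_natCast, ← zpow_mul, mul_comm, zpow_mul, zpow_natCast, hg, one_zpow]
    let _ : MulAction (Subgroup.zpowers g) (Fin 4 → ZMod 2) :=
      { smul := fun a y => f (a : X) y
        one_smul := fun y => show f 1 y = y by rw [map_one]; rfl
        mul_smul := fun a b y => show f ((a : X) * b) y = _ by rw [map_mul]; rfl }
    have h := hzg.card_modEq_card_fixedPoints (Fin 4 → ZMod 2)
    have heq : Nat.card (MulAction.fixedPoints (Subgroup.zpowers g) (Fin 4 → ZMod 2)) = Nat.card Y := by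
      refine Nat.card_congr (Equiv.subtypeEquivRight fun y => ⟨fun hy => (hY y).mpr
        (hy ⟨g, Subgroup.mem_zpowers g⟩), fun hy a => ?_⟩)
      obtain ⟨n, hn⟩ := (mem_powers_iff_mem_zpowers).mpr a.2
      show f (a : X) y = y
      rw [← hn]
      clear hn
      induction n with
      | zero => simp
      | succ n ih =>
        show f (g ^ (n + 1)) y = y
        rw [pow_succ, map_mul, Module.End.mul_apply, (hY y).mp hy]; exact ih
    rw [heq, Module.natCard_eq_pow_finrank (K := ZMod 2) (V := Y), Nat.card_zmod,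
      Nat.card_fun, Nat.card_zmod, Nat.card_fin] at h
    have hpos : 1 ≤ finrank (ZMod 2) Y :=
      Submodule.one_le_finrank_iff.mpr ((Submodule.ne_bot_iff _).mpr ⟨x, (hY x).mpr hx, hx0⟩)
    have hne : finrank (ZMod 2) Y < 4 := by
      have hlt := Submodule.finrank_lt (s := Y) fun htop => hg1 (eq_one_of_fix f hf fun y =>
        (hY y).mp (htop ▸ Submodule.mem_top))
      rwa [Module.finrank_fin_fun] at hlt
    interval_cases hh : finrank (ZMod 2) Y <;> simp [Nat.ModEq] at h
  have hfree : ∀ c ∈ B, c ≠ 1 → ∀ x, f c x = x → x = 0 := by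
    intro c hc hc1 x hx
    let Y := LinearMap.ker (f c - 1)
    have hY : ∀ y, y ∈ Y ↔ f c y = y := fun y => by
      simp [Y, LinearMap.mem_ker, sub_eq_zero]
    rcases fixed_or f hf hg Y (fun y hy => (hY _).mpr (by
        rw [← Module.End.mul_apply, ← map_mul, ← (hcomm c hc).eq, map_mul, Module.End.mul_apply,
          (hY y).mp hy])) (fun y _ hy => hfix5 y hy) with h | h
    · exact (Submodule.mem_bot (R := ZMod 2)).mp (h ▸ (hY x).mpr hx)
    · exact absurd (eq_one_of_fix f hf fun y => (hY y).mp (h ▸ Submodule.mem_top)) hc1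
  let x0 : Fin 4 → ZMod 2 := fun _ => 1
  have hx0 : x0 ≠ 0 := fun h => one_ne_zero (congrFun h 0 : (1 : ZMod 2) = 0)
  have hord : orderOf g = 5 := by
    have : Fact (Nat.Prime 5) := ⟨by norm_num⟩
    exact orderOf_eq_prime hg hg1
  let φ : Fin 5 × B → (Fin 4 → ZMod 2) := fun a => f (g ^ (a.1 : ℕ) * a.2) x0
  have hinj : Function.Injective φ := by
    rintro ⟨i, c⟩ ⟨j, c'⟩ e
    have e' : f (g ^ (i : ℕ) * c) x0 = f (g ^ (j : ℕ) * c') x0 := e
    set y := (g ^ (j : ℕ) * c')⁻¹ * (g ^ (i : ℕ) * c) with hy
    have hfy : f y x0 = x0 := by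
      rw [hy, map_mul, Module.End.mul_apply, e', ← Module.End.mul_apply, ← map_mul, inv_mul_cancel,
        map_one, Module.End.one_apply]
    set t : ℤ := (i : ℤ) - j with ht
    set b : X := (c' : X)⁻¹ * c with hb
    have hcg : Commute g b := (hcomm c' c'.2).inv_right.mul_right (hcomm c c.2)
    have hyb : y = g ^ t * b := by
      have h1 : Commute ((c' : X)⁻¹) (g ^ t) := ((hcomm c' c'.2).inv_right.zpow_left t).symm
      calc y = (c' : X)⁻¹ * g ^ t * c := by
            rw [hy, mul_inv_rev, ht, zpow_sub, zpow_natCast, zpow_natCast,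
              ((Commute.refl g).pow_pow (i : ℕ) j).inv_right.eq]
            group
        _ = _ := by rw [h1.eq, mul_assoc]
    have hy9 : f (g ^ (t * 9)) x0 = x0 := by
      have h1 : y ^ 9 = g ^ (t * 9) := by
        rw [hyb, (hcg.zpow_left t).mul_pow, hB b (mul_mem (inv_mem c'.2) c.2), mul_one,
          ← zpow_natCast, ← zpow_mul]
        rfl
      rw [← h1]
      have : ∀ n : ℕ, f (y ^ n) x0 = x0 := fun n => by
        induction n with
        | zero => simp
        | succ n ih => rw [pow_succ, map_mul, Module.End.mul_apply, hfy, ih]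
      exact this 9
    have ht5 : (5 : ℤ) ∣ t := by
      by_contra hnd
      obtain ⟨u, v, huv⟩ : IsCoprime (t * 9) (5 : ℤ) := by
        refine ((Nat.prime_iff_prime_int.mp (by norm_num : Nat.Prime 5)).coprime_iff_not_dvd.mpr
          ?_).symm
        intro h
        exact hnd (by omega)
      refine hx0 (hfix5 x0 ?_)
      have h1 : g = (g ^ (t * 9)) ^ u := by
        rw [← zpow_mul]
        calc g = g ^ (u * (t * 9) + v * 5) := by rw [huv, zpow_one]
          _ = _ := by
            rw [zpow_add, mul_comm v 5, zpow_mul g 5 v, (show g ^ (5 : ℤ) = 1 by exact_mod_cast hg),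
              one_zpow, mul_one, mul_comm u]
      rw [h1]
      have key : ∀ (z : X), f z x0 = x0 → f z⁻¹ x0 = x0 := fun z hz => by
        conv_lhs => rw [← hz]
        rw [← Module.End.mul_apply, ← map_mul, inv_mul_cancel, map_one, Module.End.one_apply]
      have key2 : ∀ n : ℕ, f ((g ^ (t * 9)) ^ n) x0 = x0 := fun n => by
        induction n with
        | zero => simp
        | succ n ih => rw [pow_succ, map_mul, Module.End.mul_apply, hy9, ih]
      obtain ⟨n, rfl | rfl⟩ := Int.eq_nat_or_neg u
      · rw [zpow_natCast]; exact key2 n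
      · rw [zpow_neg, zpow_natCast]; exact key _ (key2 n)
    have hij : i = j := by
      refine Fin.ext ?_
      have := i.2; have := j.2
      omega
    subst hij
    have hbfix : f b x0 = x0 := by
      rw [hyb, ht, sub_self, zpow_zero, one_mul] at hfy
      exact hfy
    have hb1 : b = 1 := by
      by_contra hb1
      exact hx0 (hfree b (mul_mem (inv_mem c'.2) c.2) hb1 x0 hbfix)
    exact Prod.ext rfl (Subtype.ext (inv_mul_eq_one.mp hb1).symm)
  have h16 := Nat.card_le_card_of_injective φ hinj
  rw [Nat.card_prod, Nat.card_fin, Nat.card_fun, Nat.card_zmod, Nat.card_fin] at h16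
  omega

end Four

/-- The centralizer of a normal subgroup has index dividing the number of its automorphisms. -/
theorem index_centralizer_dvd_mulAut {X : Type u} [Group X] (F : Subgroup X) [F.Normal] :
    (Subgroup.centralizer (F : Set X)).index ∣ Nat.card (MulAut F) := by
  let φ : X →* MulAut F := MulAut.conjNormal
  have hk : φ.ker = Subgroup.centralizer (F : Set X) := by
    ext g
    rw [MonoidHom.mem_ker, Subgroup.mem_centralizer_iff]
    refine ⟨fun h x hx => ?_, fun h => MulEquiv.ext fun x => Subtype.ext ?_⟩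
    · have h1 := congrArg (fun σ : MulAut F => (σ ⟨x, hx⟩ : X)) h
      simp only [φ, MulAut.conjNormal_apply, MulAut.one_apply] at h1
      exact (mul_inv_eq_iff_eq_mul.mp h1).symm
    · show ((MulAut.conjNormal g x : F) : X) = (x : X)
      rw [MulAut.conjNormal_apply, ← h x x.2, mul_inv_cancel_right]
  rw [← hk, Subgroup.index_ker]
  exact φ.range.card_subgroup_dvd_card

/-- Solvable groups of invertible maps of a four-dimensional binary space without normal
two-subgroups. -/
theorem card_le_of_four {X : Type u} [Group X] [Finite X] [Group.IsSolvable X]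
    (f : X →* Module.End (ZMod 2) (Fin 4 → ZMod 2)) (hf : Function.Injective f)
    (hO : ∀ U : Subgroup X, U.Normal → IsPGroup 2 U → U = ⊥) : Nat.card X ≤ 144 := by
  classical
  have hX : Nat.card X ∣ 20160 := by
    have h := card_dvd_GL f hf
    simpa [Fin.prod_univ_succ] using h
  set F := fittingSubgroup X with hF
  have hFn : F.Normal := Cores.fittingSubgroup_normal X
  have hnil : Group.IsNilpotent F := Cores.isNilpotent_fittingSubgroup
  have hC : Subgroup.centralizer (F : Set X) ≤ F := Cores.centralizer_fittingSubgroup_le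
  have hcardX : Nat.card X ≤ Nat.card F * Nat.card (MulAut F) := by
    rw [← (Subgroup.centralizer (F : Set X)).card_mul_index]
    exact Nat.mul_le_mul (Subgroup.card_le_of_le hC)
      (Nat.le_of_dvd Nat.card_pos (index_centralizer_dvd_mulAut F))
  have hsyl : ∀ {q : ℕ} [Fact q.Prime] (P : Sylow q F), (P : Subgroup F).Normal := fun P => by
    have := hnil
    infer_instance
  have hodd : ¬ 2 ∣ Nat.card F := by
    intro h2
    obtain ⟨P⟩ : Nonempty (Sylow 2 F) := inferInstance
    have hPn := hsyl P
    have : (P : Subgroup F).Characteristic := P.characteristic_of_normal hPn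
    have h := hO ((P : Subgroup F).map F.subtype) inferInstance (P.isPGroup'.map _)
    exact P.ne_bot_of_dvd_card h2 ((Subgroup.map_eq_bot_iff_of_injective _ F.subtype_injective).mp h)
  have hcomm : ∀ {a b : F} {q r : ℕ}, q.Prime → r.Prime → q ≠ r →
      (∃ i, a ^ q ^ i = 1) → (∃ i, b ^ r ^ i = 1) → Commute a b := by
    intro a b q r hq hr hqr ha hb
    have := Fact.mk hq; have := Fact.mk hr
    obtain ⟨P⟩ : Nonempty (Sylow q F) := inferInstance
    obtain ⟨R⟩ : Nonempty (Sylow r F) := inferInstance
    have hP := hsyl P; have hR := hsyl R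
    have mem : ∀ {s : ℕ} [Fact s.Prime] (S : Sylow s F), (S : Subgroup F).Normal →
        ∀ x : F, (∃ i, x ^ s ^ i = 1) → x ∈ (S : Subgroup F) := by
      intro s _ S hS x hx
      have hz : IsPGroup s (Subgroup.zpowers x) := by
        obtain ⟨i, hi⟩ := hx
        intro y
        obtain ⟨n, hn⟩ := Subgroup.mem_zpowers_iff.mp y.2
        refine ⟨i, Subtype.ext ?_⟩
        show (y : F) ^ s ^ i = 1
        rw [← hn, ← zpow_natCast, ← zpow_mul, mul_comm, zpow_mul, zpow_natCast, hi, one_zpow]
      have : Subgroup.zpowers x ⊔ (S : Subgroup F) = S :=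
        S.is_maximal' (hz.to_sup_of_normal_right S.isPGroup') le_sup_right
      exact (le_sup_left.trans this.le) (Subgroup.mem_zpowers x)
    exact Subgroup.commute_of_normal_of_disjoint _ _ hP hR
      (IsPGroup.disjoint_of_ne q r hqr _ _ P.isPGroup' R.isPGroup') a b (mem P hP a ha) (mem R hR b hb)
  have hdvd : Nat.card F ∣ 315 := by
    have h1 := (F.card_subgroup_dvd_card).trans hX
    refine Nat.Coprime.dvd_of_dvd_mul_left ?_ (show Nat.card F ∣ 64 * 315 from h1)
    exact Nat.Coprime.pow_right 6 ((Nat.coprime_two_right).mpr (Nat.odd_iff.mpr (by omega)))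
  -- no seven with three or five
  have h7 : 7 ∣ Nat.card F → Nat.card F = 7 := by
    intro h
    have : Fact (Nat.Prime 7) := ⟨by norm_num⟩
    obtain ⟨g, hg⟩ := exists_prime_orderOf_dvd_card' (G := F) 7 h
    have hno : ∀ m, m.Prime → 3 ≤ m → m ≠ 7 → ¬ m ∣ Nat.card F := by
      intro m hm hm3 hm7 hmd
      have := Fact.mk hm
      obtain ⟨c, hc⟩ := exists_prime_orderOf_dvd_card' (G := F) m hmd
      refine not_commute_seven f hf (g := (g : X)) (c := (c : X)) ?_ ?_ hm hm3 hm7 ?_ ?_
        (congrArg Subtype.val (hcomm (a := g) (b := c) (q := 7) (r := m) (by norm_num) hm hm7.symm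
          ⟨1, by rw [pow_one, ← hg, pow_orderOf_eq_one]⟩
          ⟨1, by rw [pow_one, ← hc, pow_orderOf_eq_one]⟩).eq :)
      · rw [← SubmonoidClass.coe_pow, ← hg, pow_orderOf_eq_one, OneMemClass.coe_one]
      · intro e; rw [show g = 1 from Subtype.ext e, orderOf_one] at hg; norm_num at hg
      · rw [← SubmonoidClass.coe_pow, ← hc, pow_orderOf_eq_one, OneMemClass.coe_one]
      · intro e; rw [show c = 1 from Subtype.ext e, orderOf_one] at hc; omega
    have h3 := hno 3 (by norm_num) le_rfl (by norm_num)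
    have h5 := hno 5 (by norm_num) (by norm_num) (by norm_num)
    have hle := Nat.le_of_dvd (by norm_num) hdvd
    obtain ⟨t, ht⟩ := h
    rw [ht] at hdvd h3 h5 ⊢
    have ht45 : t ∣ 45 := Nat.dvd_of_mul_dvd_mul_left (by norm_num : 0 < 7) (hdvd.trans (dvd_of_eq rfl))
    have : t ≤ 45 := Nat.le_of_dvd (by norm_num) ht45
    interval_cases t <;> omega
  have h45 : Nat.card F ≠ 45 := by
    intro h
    have : Fact (Nat.Prime 5) := ⟨by norm_num⟩
    have : Fact (Nat.Prime 3) := ⟨by norm_num⟩
    obtain ⟨g, hg⟩ := exists_prime_orderOf_dvd_card' (G := F) 5 (by rw [h]; norm_num)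
    obtain ⟨P⟩ : Nonempty (Sylow 3 F) := inferInstance
    have hP : Nat.card (P : Subgroup F) = 9 := by
      rw [P.card_eq_multiplicity, h]
      rw [show (45 : ℕ) = 3 ^ 2 * 5 by norm_num, Nat.factorization_mul (by norm_num) (by norm_num),
        Nat.Prime.factorization_pow (by norm_num), Nat.Prime.factorization (by norm_num : Nat.Prime 5)]
      simp
    have h3 := card_commuting_five f hf (g := (g : X))
      (by rw [← SubmonoidClass.coe_pow, ← hg, pow_orderOf_eq_one, OneMemClass.coe_one])
      (fun e => by rw [show g = 1 from Subtype.ext e, orderOf_one] at hg; norm_num at hg)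
      ((P : Subgroup F).map F.subtype)
      (by
        rintro _ ⟨c, hc, rfl⟩
        have : (⟨c, hc⟩ : (P : Subgroup F)) ^ 9 = 1 := by rw [← hP]; exact pow_card_eq_one'
        rw [← map_pow, show c ^ 9 = 1 from congrArg Subtype.val this, map_one])
      (by
        rintro _ ⟨c, hc, rfl⟩
        refine congrArg Subtype.val (hcomm (a := g) (b := c) (q := 5) (r := 3) (by norm_num)
          (by norm_num) (by norm_num) ⟨1, by rw [pow_one, ← hg, pow_orderOf_eq_one]⟩ ?_).eq
        obtain ⟨i, hi⟩ := P.isPGroup' ⟨c, hc⟩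
        exact ⟨i, congrArg Subtype.val hi⟩)
    rw [Subgroup.card_map_of_injective F.subtype_injective, hP] at h3
    omega
  have hcyc : IsCyclic F → Nat.card X ≤ Nat.card F * (Nat.card F).totient := fun hc => by
    have := hc
    rwa [IsCyclic.card_mulAut] at hcardX
  obtain ⟨n, hn⟩ : ∃ n, n = Nat.card F := ⟨_, rfl⟩
  have hmem : n ∈ Nat.divisors 315 := Nat.mem_divisors.mpr ⟨hn ▸ hdvd, by norm_num⟩
  have hcases : n = 1 ∨ n = 3 ∨ n = 5 ∨ n = 7 ∨ n = 9 ∨ n = 15 := by
    rw [show Nat.divisors 315 = {1, 3, 5, 7, 9, 15, 21, 35, 45, 63, 105, 315} by decide +kernel]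
      at hmem
    rw [← hn] at h7 h45
    simp only [Finset.mem_insert, Finset.mem_singleton] at hmem
    omega
  rcases hcases with h | h | h | h | h | h <;> rw [hn] at h
  · have : IsCyclic F := @isCyclic_of_subsingleton _ _ (Nat.card_eq_one_iff_unique.mp h).1
    have := hcyc this; rw [h, Nat.totient_one] at this; omega
  · have := hcyc (isCyclic_of_prime_card (p := 3) h); rw [h] at this
    have := Nat.totient_le 3; nlinarith
  · have := hcyc (isCyclic_of_prime_card (p := 5) (hp := ⟨by norm_num⟩) h); rw [h] at this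
    have := Nat.totient_le 5; nlinarith
  · have := hcyc (isCyclic_of_prime_card (p := 7) (hp := ⟨by norm_num⟩) h); rw [h] at this
    have := Nat.totient_le 7; nlinarith
  · by_cases hc : IsCyclic F
    · have := hcyc hc; rw [h] at this
      have := Nat.totient_le 9; nlinarith
    have : Fact (Nat.Prime 3) := ⟨by norm_num⟩
    have hp2 : Nat.card F = 3 ^ 2 := by rw [h]; norm_num
    letI : CommGroup F :=
      { (inferInstance : Group F) with
        mul_comm := fun a b => (IsPGroup.isMulCommutative_of_card_eq_prime_sq hp2).is_comm.comm a b }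
    have hexp : ∀ a : F, a ^ 3 = 1 := by
      intro a
      by_contra ha
      refine hc (isCyclic_of_orderOf_eq_card a ?_)
      have hd : orderOf a ∣ 3 ^ 2 := hp2 ▸ orderOf_dvd_natCard a
      obtain ⟨i, hi, hai⟩ := (Nat.dvd_prime_pow (by norm_num)).mp hd
      interval_cases i
      · exact absurd (by rw [show a = 1 from orderOf_eq_one_iff.mp (by simpa using hai), one_pow]) ha
      · exact absurd (orderOf_dvd_iff_pow_eq_one.mp (by rw [hai]; norm_num)) ha
      · rw [hp2, hai]
    obtain ⟨g, hg⟩ := exists_hom_end (q := 3) (N := 2) hexp (by rw [h]; norm_num)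
    have h48 : Nat.card (MulAut F) ∣ 48 := by
      have := card_dvd_GL g hg
      simpa [Fin.prod_univ_succ] using this
    have hCF : Subgroup.centralizer (F : Set X) = F := le_antisymm hC fun a ha =>
      Subgroup.mem_centralizer_iff.mpr fun b hb =>
        congrArg Subtype.val (mul_comm (⟨b, hb⟩ : F) ⟨a, ha⟩)
    have h16 : F.index ∣ 48 := hCF ▸ (index_centralizer_dvd_mulAut F).trans h48
    have hidx : 9 * F.index ∣ 20160 := by rw [← h, F.card_mul_index]; exact hX
    have : F.index ∣ Nat.gcd 48 2240 :=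
      Nat.dvd_gcd h16 (Nat.dvd_of_mul_dvd_mul_left (by norm_num : 0 < 9) hidx)
    have := Nat.le_of_dvd (by norm_num) this
    rw [← F.card_mul_index, h]
    norm_num at this
    omega
  · have : Fact (Nat.Prime 5) := ⟨by norm_num⟩
    have : Fact (Nat.Prime 3) := ⟨by norm_num⟩
    obtain ⟨a, ha⟩ := exists_prime_orderOf_dvd_card' (G := F) 3 (by rw [h]; norm_num)
    obtain ⟨b, hb⟩ := exists_prime_orderOf_dvd_card' (G := F) 5 (by rw [h]; norm_num)
    have hab : Commute a b := hcomm (q := 3) (r := 5) (by norm_num) (by norm_num) (by norm_num)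
      ⟨1, by rw [pow_one, ← ha, pow_orderOf_eq_one]⟩ ⟨1, by rw [pow_one, ← hb, pow_orderOf_eq_one]⟩
    have := hcyc (isCyclic_of_orderOf_eq_card (a * b) (by
      rw [hab.orderOf_mul_eq_mul_orderOf_of_coprime (by rw [ha, hb]; norm_num), ha, hb, h]))
    rw [h, show (15 : ℕ).totient = 8 by decide +kernel] at this
    omega

end CfsgLib.ClassLowerSharp
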