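import Mathlib

/-!
The centralizer index when one more generator is added.
-/

set_option autoImplicit false

namespace CfsgLib.ClassLowerSharp

open Subgroup

universe u

variable {Y : Type u} [Group Y] [Finite Y]

/-- Adding `x` multiplies the index of the centralizer by at most the number of its conjugates
under the centralizer. -/
theorem index_centralizer_step (D : Subgroup Y) (x : Y) {s : ℕ}
    (hs : Nat.card {a : Y // ∃ g ∈ centralizer (D : Set Y), g * x * g⁻¹ = a} ≤ s) :
    (centralizer ((D ⊔ zpowers x : Subgroup Y) : Set Y)).index ≤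
      (centralizer (D : Set Y)).index * s := by
  classical
  set CD := centralizer (D : Set Y) with hCD
  set Cx := centralizer ({x} : Set Y) with hCx
  have hle : CD ⊓ Cx ≤ centralizer ((D ⊔ zpowers x : Subgroup Y) : Set Y) := by
    intro g hg
    have h : D ⊔ zpowers x ≤ centralizer {g} := by
      refine sup_le (fun d hd => ?_) ((zpowers_le).mpr ?_)
      · exact mem_centralizer_singleton_iff.mpr (mem_centralizer_iff.mp hg.1 d hd)
      · exact mem_centralizer_singleton_iff.mpr
          (mem_centralizer_singleton_iff.mp (hg.2 : g ∈ Cx)).symm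
    rw [mem_centralizer_iff]
    intro d hd
    exact mem_centralizer_singleton_iff.mp (h hd)
  refine (Nat.le_of_dvd (Nat.pos_of_ne_zero index_ne_zero_of_finite)
    (index_dvd_of_le hle)).trans ?_
  rw [inf_comm, ← Subgroup.relIndex_mul_index (inf_le_right : Cx ⊓ CD ≤ CD),
    Subgroup.inf_relIndex_right, mul_comm]
  refine Nat.mul_le_mul_left _ (le_trans ?_ hs)
  rw [Subgroup.relIndex, Subgroup.index]
  refine Nat.card_le_card_of_injective
    (fun q => (⟨(q.out : Y) * x * (q.out : Y)⁻¹, q.out, q.out.2, rfl⟩ :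
      {a : Y // ∃ g ∈ centralizer (D : Set Y), g * x * g⁻¹ = a}))
    (fun q q' h => ?_)
  rw [Subtype.mk.injEq] at h
  rw [← QuotientGroup.out_eq' q, ← QuotientGroup.out_eq' q', QuotientGroup.eq, mem_subgroupOf]
  refine mem_centralizer_singleton_iff.mpr ?_
  push_cast
  calc (q.out : Y)⁻¹ * q'.out * x = (q.out : Y)⁻¹ * ((q'.out : Y) * x * (q'.out : Y)⁻¹) * q'.out := by
        group
    _ = (q.out : Y)⁻¹ * ((q.out : Y) * x * (q.out : Y)⁻¹) * q'.out := by rw [h]
    _ = x * ((q.out : Y)⁻¹ * q'.out) := by group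

/-- The subgroup generated by `D` and `x` has at least as many elements as the cosets `D x^j`. -/
theorem mul_card_le_card_sup (D : Subgroup Y) (x : Y) {m : ℕ}
    (hmin : ∀ j, 1 ≤ j → j < m → x ^ j ∉ D) :
    m * Nat.card D ≤ Nat.card (D ⊔ zpowers x : Subgroup Y) := by
  rw [mul_comm, ← Nat.card_fin m, ← Nat.card_prod]
  refine Nat.card_le_card_of_injective (fun dj => (⟨(dj.1 : Y) * x ^ (dj.2 : ℕ), mul_mem
    (le_sup_left (a := D) dj.1.2) (pow_mem (le_sup_right (a := D) (mem_zpowers x)) _)⟩ :
      (D ⊔ zpowers x : Subgroup Y))) ?_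
  intro a b h
  have h' : (a.1 : Y) * x ^ (a.2 : ℕ) = (b.1 : Y) * x ^ (b.2 : ℕ) := congrArg Subtype.val h
  have key : ∀ c d : D, ∀ i j : Fin m, (c : Y) * x ^ (i : ℕ) = (d : Y) * x ^ (j : ℕ) →
      (i : ℕ) ≤ (j : ℕ) → i = j := by
    intro c d i j hcd hij
    rcases eq_or_lt_of_le hij with h0 | h0
    · exact Fin.ext h0
    · have h3 : x ^ ((j : ℕ) - i) ∈ D := by
        have : x ^ ((j : ℕ) - i) = (d : Y)⁻¹ * c := by
          rw [pow_sub _ h0.le, eq_inv_mul_iff_mul_eq, ← mul_assoc, ← hcd, mul_inv_cancel_right]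
        rw [this]; exact mul_mem (inv_mem d.2) c.2
      exact absurd h3 (hmin _ (by omega) (by have := j.2; omega))
  have h2 : a.2 = b.2 := by
    rcases le_total (a.2 : ℕ) b.2 with h0 | h0
    · exact key _ _ _ _ h' h0
    · exact (key _ _ _ _ h'.symm h0).symm
  rw [h2] at h'
  exact Prod.ext (Subtype.ext (mul_right_cancel h')) h2

end CfsgLib.ClassLowerSharp
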