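import Mathlib
import Cfsg.Agent.Lib.ClassLower.Primitive
import Cfsg.Agent.Lib.ClassLowerSharp.Index
import Cfsg.Agent.Lib.Cores.Fitting

/-!
Solvable linear groups all of whose abelian normal subgroups are scalar: the Fitting subgroup.
-/

set_option autoImplicit false
set_option linter.style.haveILetI false
set_option linter.unusedSectionVars false

namespace CfsgLib.ClassLowerSharp

open Module Cfsg
open scoped commutatorElement

universe u v w

variable {k : Type w} [Field k] {H : Type u} [Group H] [Finite H] {V : Type v} [AddCommGroup V]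
  [Module k V]

/-- Faithful, and every abelian normal subgroup consists of scalars. -/
structure IsPrim (ρ : H →* Module.End k V) : Prop where
  inj : Function.Injective ρ
  nt : Nontrivial V
  scal : ∀ A : Subgroup H, A.Normal → (∀ a ∈ A, ∀ b ∈ A, a * b = b * a) →
    ∀ g ∈ A, ∃ c : k, ρ g = c • 1
  solv : Group.IsSolvable H

/-- The scalar elements. -/
def scalars (ρ : H →* Module.End k V) : Subgroup H where
  carrier := {g | ∃ c : k, ρ g = c • 1}
  one_mem' := ⟨1, by simp⟩
  mul_mem' := fun {a b} ⟨c, hc⟩ ⟨e, he⟩ => ⟨c * e, by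
    rw [map_mul, hc, he, smul_mul_smul_comm, one_mul]⟩
  inv_mem' := fun {a} ⟨c, hc⟩ => ⟨c⁻¹, by
    have h : ρ a * ρ a⁻¹ = 1 := by rw [← map_mul, mul_inv_cancel, map_one]
    rw [hc, smul_mul_assoc, one_mul] at h
    rcases eq_or_ne c 0 with rfl | hc0
    · rw [zero_smul] at h
      rw [inv_zero, zero_smul]
      have h1 : ρ a⁻¹ = ρ a⁻¹ * 1 := (mul_one _).symm
      rw [h1, ← h, mul_zero]
    · rw [← h, inv_smul_smul₀ hc0]⟩

variable {ρ : H →* Module.End k V}

theorem relIndex_pos {G : Type*} [Group G] [Finite G] {A B : Subgroup G} : 0 < A.relIndex B :=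
  Nat.pos_of_ne_zero Subgroup.index_ne_zero_of_finite

theorem mem_scalars {g : H} : g ∈ scalars ρ ↔ ∃ c : k, ρ g = c • 1 := Iff.rfl

namespace IsPrim

variable (hρ : IsPrim ρ)
include hρ

theorem scalars_le_center : scalars ρ ≤ Subgroup.center H := fun z ⟨c, hc⟩ =>
  Subgroup.mem_center_iff.mpr fun g =>
    hρ.inj (by rw [map_mul, map_mul, hc, smul_mul_assoc, mul_smul_comm, one_mul, mul_one])

theorem scalars_normal : (scalars ρ).Normal := ⟨fun z hz g => by
  rw [Subgroup.mem_center_iff.mp (hρ.scalars_le_center hz) g, mul_inv_cancel_right]; exact hz⟩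

theorem le_scalars_of_abelian {A : Subgroup H} (hA : A.Normal)
    (hc : ∀ a ∈ A, ∀ b ∈ A, a * b = b * a) : A ≤ scalars ρ := fun g hg => hρ.scal A hA hc g hg

theorem scalars_le_fitting : scalars ρ ≤ fittingSubgroup H := by
  have := hρ.scalars_normal
  refine Cores.le_fittingSubgroup ?_
  refine @CommGroup.isNilpotent _
    { (inferInstance : Group (scalars ρ)) with
      mul_comm := fun a b => Subtype.ext (Subgroup.mem_center_iff.mp (hρ.scalars_le_center b.2) a) }

theorem commutator_fitting_le : ⁅fittingSubgroup H, fittingSubgroup H⁆ ≤ scalars ρ := by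
  set F := fittingSubgroup H with hF
  let L : ℕ → Subgroup H := fun n => Nat.rec ⁅F, F⁆ (fun _ K => ⁅K, F⁆) n
  have hLn : ∀ n, (L n).Normal := by
    intro n
    induction n with
    | zero => exact Subgroup.commutator_normal (H₁ := F) (H₂ := F)
    | succ n ih => exact @Subgroup.commutator_normal _ _ (L n) F ih inferInstance
  have hLF : ∀ n, L n ≤ ⁅F, F⁆ := by
    intro n
    induction n with
    | zero => exact le_rfl
    | succ n ih => exact Subgroup.commutator_mono (ih.trans (Subgroup.commutator_le_self F)) le_rfl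
  obtain ⟨m, hm⟩ : ∃ m, L m = ⊥ := by
    have hnil : Group.IsNilpotent F := Cores.isNilpotent_fittingSubgroup
    obtain ⟨n, hn⟩ := Subgroup.nilpotent_iff_lowerCentralSeries.mp hnil
    refine ⟨n, ?_⟩
    have hle : ∀ j, L j ≤ (Subgroup.lowerCentralSeries (⊤ : Subgroup F) j).map F.subtype := by
      intro j
      induction j with
      | zero =>
        rw [Subgroup.lowerCentralSeries_zero, ← MonoidHom.range_eq_map, Subgroup.range_subtype]
        exact Subgroup.commutator_le_self F
      | succ j ih =>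
        rw [Subgroup.lowerCentralSeries_succ, Subgroup.map_commutator]
        refine Subgroup.commutator_mono ih ?_
        rw [← MonoidHom.range_eq_map, Subgroup.range_subtype]
    rw [eq_bot_iff]
    refine (hle n).trans ?_
    rw [hn, Subgroup.map_bot]
  suffices h : ∀ j, j ≤ m → L (m - j) ≤ scalars ρ by
    have h0 := h m le_rfl
    rw [Nat.sub_self] at h0
    exact h0
  intro j
  induction j with
  | zero => exact fun _ => hm.le.trans bot_le
  | succ j ih =>
    intro hj
    obtain ⟨n, hn⟩ : ∃ n, n = m - (j + 1) := ⟨_, rfl⟩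
    have hnext : ⁅L n, F⁆ ≤ scalars ρ := by
      have := ih (by omega)
      rwa [show m - j = n + 1 by omega] at this
    rw [← hn]
    refine hρ.le_scalars_of_abelian (hLn n) fun a ha b hb => ?_
    have hz : ∀ K : Subgroup H, ⁅⁅L n, F⁆, K⁆ = ⊥ := fun K => by
      rw [eq_bot_iff, Subgroup.commutator_le]
      intro x hx y _
      rw [Subgroup.mem_bot, commutatorElement_eq_one_iff_mul_comm]
      exact (Subgroup.mem_center_iff.mp (hρ.scalars_le_center (hnext hx)) y).symm
    have h3 : ⁅⁅F, F⁆, L n⁆ = ⊥ := Subgroup.commutator_commutator_eq_bot_of_rotate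
      (by rw [Subgroup.commutator_comm F (L n)]; exact hz F) (hz F)
    have h4 : ⁅b, a⁆ ∈ ⁅⁅F, F⁆, L n⁆ := Subgroup.commutator_mem_commutator (hLF n hb) ha
    rw [h3, Subgroup.mem_bot, commutatorElement_eq_one_iff_mul_comm] at h4
    exact h4.symm

theorem centralizer_fitting_le :
    Subgroup.centralizer (fittingSubgroup H : Set H) ≤ scalars ρ := by
  have := hρ.solv
  have hle : Subgroup.centralizer (fittingSubgroup H : Set H) ≤ fittingSubgroup H :=
    Cores.centralizer_fittingSubgroup_le
  exact hρ.le_scalars_of_abelian Subgroup.normal_centralizer fun a ha b hb =>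
    (Subgroup.mem_centralizer_iff.mp ha b (hle hb)).symm

/-- A scalar by which an element is multiplied under conjugation has order dividing the degree. -/
theorem pow_finrank_eq_one [FiniteDimensional k V] {g h z : H} {c : k} (hz : ρ z = c • 1)
    (hg : g * h * g⁻¹ = h * z) : c ^ finrank k V = 1 := by
  have hdet := congrArg LinearMap.det (congrArg ρ hg)
  rw [map_mul ρ h z, hz, mul_smul_comm, mul_one, LinearMap.det_smul, map_mul, map_mul, map_mul,
    map_mul, mul_comm (LinearMap.det (ρ g)), mul_assoc, ← map_mul LinearMap.det, ← map_mul ρ,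
    mul_inv_cancel, map_one, map_one, mul_one] at hdet
  have hne : LinearMap.det (ρ h) ≠ 0 := by
    intro h0
    have h1 : LinearMap.det (ρ (h * h⁻¹)) = 0 := by rw [map_mul, map_mul, h0, zero_mul]
    rw [mul_inv_cancel, map_one, map_one] at h1
    exact one_ne_zero h1
  exact (mul_eq_right₀ hne).mp hdet.symm

/-- Centralized modulo scalars by the Fitting subgroup. -/
theorem commutator_pairing (g : H) (hg : ∀ e ∈ fittingSubgroup H, ⁅g, e⁆ ∈ scalars ρ)
    (e e' : H) (_he : e ∈ fittingSubgroup H) (he' : e' ∈ fittingSubgroup H) :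
    ⁅g, e * e'⁆ = ⁅g, e⁆ * ⁅g, e'⁆ := by
  have h := Subgroup.mem_center_iff.mp (hρ.scalars_le_center (hg e' he')) e
  calc ⁅g, e * e'⁆ = ⁅g, e⁆ * (e * ⁅g, e'⁆ * e⁻¹) := by group
    _ = ⁅g, e⁆ * ⁅g, e'⁆ := by rw [h, mul_inv_cancel_right]

/-- The commutator pairing bounds one index by the other. -/
theorem relIndex_le_of_pairing (X Y : Subgroup H) (hY : Y ≤ fittingSubgroup H)
    (hX : ∀ x ∈ X, ∀ e ∈ fittingSubgroup H, ⁅x, e⁆ ∈ scalars ρ) :
    (Subgroup.centralizer (Y : Set H)).relIndex X ≤
      (Subgroup.centralizer (X : Set H)).relIndex Y := by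
  classical
  choose c hc using fun x : X => fun y : Y => hX x x.2 y (hY y.2)
  have hinj : ∀ a b : k, a • (1 : Module.End k V) = b • 1 → a = b := fun a b h => by
    have := hρ.nt
    exact smul_left_injective k one_ne_zero h
  have hcm : ∀ x y y', c x (y * y') = c x y * c x y' := fun x y y' => hinj _ _ (by
    rw [← hc, Subgroup.coe_mul, hρ.commutator_pairing x (hX x x.2) y y' (hY y.2) (hY y'.2),
      map_mul, hc, hc, smul_mul_smul_comm, one_mul])
  have hc1 : ∀ x, c x 1 = 1 := fun x => hinj _ _ (by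
    rw [← hc, OneMemClass.coe_one, commutatorElement_one_right, map_one, one_smul])
  let φ : X → (Y →* k) := fun x =>
    { toFun := c x, map_one' := hc1 x, map_mul' := hcm x }
  have hcx : ∀ (x x' : X) (y : Y), c (x * x') y = c x' y * c x y := fun x x' y => hinj _ _ (by
    have h := Subgroup.mem_center_iff.mp (hρ.scalars_le_center (hX x' x'.2 y (hY y.2))) (x : H)
    rw [← hc, Subgroup.coe_mul,
      show ⁅(x : H) * x', (y : H)⁆ = (x : H) * ⁅(x' : H), (y : H)⁆ * (x : H)⁻¹ * ⁅(x : H), (y : H)⁆
        by group,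
      h, mul_inv_cancel_right, map_mul, hc, hc, smul_mul_smul_comm, one_mul])
  let G0 : Subgroup Y := (Subgroup.centralizer (X : Set H)).subgroupOf Y
  let Q := X ⧸ (Subgroup.centralizer (Y : Set H)).subgroupOf X
  let f : Q → (Y →* k) := fun q => φ q.out
  have hf : Function.Injective f := by
    intro q q' h
    rw [← QuotientGroup.out_eq' q, ← QuotientGroup.out_eq' q', QuotientGroup.eq,
      Subgroup.mem_subgroupOf, Subgroup.mem_centralizer_iff]
    intro y hy
    refine (commutatorElement_eq_one_iff_mul_comm.mp (hρ.inj ?_)).symm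
    rw [map_one, hc ((q.out)⁻¹ * q'.out) ⟨y, hy⟩]
    have h1 : c q.out ⟨y, hy⟩ = c q'.out ⟨y, hy⟩ := congrArg (fun ψ : Y →* k => ψ ⟨y, hy⟩) h
    have h2 := hcx ((q.out)⁻¹) q.out ⟨y, hy⟩
    rw [inv_mul_cancel] at h2
    have h3 : c 1 ⟨y, hy⟩ = 1 := hinj _ _ (by
      rw [← hc, OneMemClass.coe_one, commutatorElement_one_left, map_one, one_smul])
    rw [hcx, ← h1, ← h2, h3, one_smul]
  have hf0 : ∀ q, ∀ y ∈ G0, f q y = 1 := fun q y hy => hinj _ _ (by
    show c q.out y • (1 : Module.End k V) = (1 : k) • 1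
    rw [← hc, one_smul, commutatorElement_eq_one_iff_mul_comm.mpr
      (Subgroup.mem_centralizer_iff.mp (Subgroup.mem_subgroupOf.mp hy) _ q.out.2), map_one])
  -- distinct characters are independent
  have : Fintype (Y ⧸ G0) := Fintype.ofFinite _
  let L : (Y ⧸ G0 → k) →ₗ[k] (Y → k) :=
    { toFun := fun ψ y => ψ (QuotientGroup.mk y), map_add' := fun _ _ => rfl,
      map_smul' := fun _ _ => rfl }
  have hli : LinearIndependent k (fun q : Q => fun t : Y ⧸ G0 => f q t.out) := by
    refine LinearIndependent.of_comp L ?_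
    have h1 := (linearIndependent_monoidHom Y k).comp f hf
    have e : ⇑L ∘ (fun q : Q => fun t : Y ⧸ G0 => f q t.out) =
        (fun φ : Y →* k => (⇑φ : Y → k)) ∘ f := by
      funext q y
      show f q (QuotientGroup.mk y : Y ⧸ G0).out = f q y
      obtain ⟨z, hz⟩ := QuotientGroup.mk_out_eq_mul G0 y
      rw [hz, map_mul, hf0 q z z.2, mul_one]
    rw [e]; exact h1
  have : Fintype Q := Fintype.ofFinite Q
  have h := hli.fintype_card_le_finrank
  rwa [Module.finrank_fintype_fun_eq_card, ← Nat.card_eq_fintype_card,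
    ← Nat.card_eq_fintype_card] at h

theorem centralizer_scalars : ∀ X : Subgroup H, scalars ρ ≤ Subgroup.centralizer (X : Set H) :=
  fun _ _ hz => Subgroup.mem_centralizer_iff.mpr fun g _ =>
    Subgroup.mem_center_iff.mp (hρ.scalars_le_center hz) g

theorem commutator_mem {a b : H} (ha : a ∈ fittingSubgroup H) (hb : b ∈ fittingSubgroup H) :
    ⁅a, b⁆ ∈ scalars ρ :=
  hρ.commutator_fitting_le (Subgroup.commutator_mem_commutator ha hb)

/-- Whatever centralizes the Fitting subgroup modulo scalars lies in it. -/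
theorem mem_fitting_of_commutators {g : H}
    (hg : ∀ e ∈ fittingSubgroup H, ⁅g, e⁆ ∈ scalars ρ) : g ∈ fittingSubgroup H := by
  set F := fittingSubgroup H with hF
  let M : Subgroup H :=
    { carrier := {x | ∀ e ∈ F, ⁅x, e⁆ ∈ scalars ρ}
      one_mem' := fun e _ => by rw [commutatorElement_one_left]; exact one_mem _
      mul_mem' := fun {a b} ha hb e he => by
        have h := Subgroup.mem_center_iff.mp (hρ.scalars_le_center (hb e he)) a
        rw [show ⁅a * b, e⁆ = a * ⁅b, e⁆ * a⁻¹ * ⁅a, e⁆ by group, h, mul_inv_cancel_right]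
        exact mul_mem (hb e he) (ha e he)
      inv_mem' := fun {a} ha e he => by
        have h := Subgroup.mem_center_iff.mp
          (hρ.scalars_le_center (inv_mem (ha e he))) a⁻¹
        rw [show ⁅a⁻¹, e⁆ = a⁻¹ * ⁅a, e⁆⁻¹ * a⁻¹⁻¹ by group, h, mul_inv_cancel_right]
        exact inv_mem (ha e he) }
  have hFM : F ≤ M := fun x hx e he => hρ.commutator_mem hx he
  have h1 := hρ.relIndex_le_of_pairing M F le_rfl fun x hx => hx
  have h2 : (scalars ρ).relIndex M ≤ (scalars ρ).relIndex F := by
    refine le_trans ?_ (h1.trans ?_)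
    · exact Nat.le_of_dvd relIndex_pos
        (Subgroup.relIndex_dvd_of_le_left M hρ.centralizer_fitting_le)
    · exact Nat.le_of_dvd relIndex_pos
        (Subgroup.relIndex_dvd_of_le_left F (hρ.centralizer_scalars M))
  have h3 := Subgroup.relIndex_mul_relIndex (scalars ρ) F M hρ.scalars_le_fitting hFM
  have h4 : F.relIndex M = 1 := by
    have hp : 0 < F.relIndex M := relIndex_pos
    have hq : 0 < (scalars ρ).relIndex F :=
      relIndex_pos
    nlinarith
  exact Subgroup.relIndex_eq_one.mp h4 (show g ∈ M from hg)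

/-- The order of the Fitting subgroup modulo scalars is a square. -/
theorem exists_sq : ∃ s, (scalars ρ).relIndex (fittingSubgroup H) = s * s := by
  set F := fittingSubgroup H with hF
  obtain ⟨D, ⟨hZD, hDF, hDc⟩, hmax⟩ := Set.exists_max_image
    {D : Subgroup H | scalars ρ ≤ D ∧ D ≤ F ∧ ∀ a ∈ D, ∀ b ∈ D, a * b = b * a}
    (fun D => Nat.card D) (Set.toFinite _)
    ⟨scalars ρ, le_rfl, hρ.scalars_le_fitting, fun a _ b hb =>
      Subgroup.mem_center_iff.mp (hρ.scalars_le_center hb) a⟩
  have hCD : Subgroup.centralizer (D : Set H) ⊓ F = D := by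
    refine le_antisymm (fun x hx => ?_) (le_inf (fun a ha => Subgroup.mem_centralizer_iff.mpr
      fun b hb => hDc b hb a ha) hDF)
    by_contra hxD
    have hcl : ∀ a ∈ Subgroup.closure ((D : Set H) ∪ {x}),
        ∀ b ∈ Subgroup.closure ((D : Set H) ∪ {x}), a * b = b * a := by
      have hset : ∀ a ∈ (D : Set H) ∪ {x}, ∀ b ∈ (D : Set H) ∪ {x}, a * b = b * a := by
        rintro a (ha | rfl) b (hb | rfl)
        · exact hDc a ha b hb
        · exact Subgroup.mem_centralizer_iff.mp hx.1 a ha
        · exact (Subgroup.mem_centralizer_iff.mp hx.1 b hb).symm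
        · rfl
      have := Subgroup.isMulCommutative_closure hset
      exact fun a ha b hb => congrArg Subtype.val (this.is_comm.comm ⟨a, ha⟩ ⟨b, hb⟩)
    have hle : D ≤ Subgroup.closure ((D : Set H) ∪ {x}) := fun a ha =>
      Subgroup.subset_closure (Or.inl ha)
    have hmem : Subgroup.closure ((D : Set H) ∪ {x}) ∈
        {D : Subgroup H | scalars ρ ≤ D ∧ D ≤ F ∧ ∀ a ∈ D, ∀ b ∈ D, a * b = b * a} :=
      ⟨hZD.trans hle, (Subgroup.closure_le F).mpr (Set.union_subset hDF
        (Set.singleton_subset_iff.mpr hx.2)), hcl⟩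
    exact hxD ((Subgroup.eq_of_le_of_card_ge hle (hmax _ hmem)).ge
      (Subgroup.subset_closure (Or.inr rfl)))
  have hCFD : Subgroup.centralizer (F : Set H) ⊓ D = scalars ρ :=
    le_antisymm (inf_le_left.trans hρ.centralizer_fitting_le)
      (le_inf (hρ.centralizer_scalars F) hZD)
  have e1 : (Subgroup.centralizer (D : Set H)).relIndex F = D.relIndex F := by
    rw [← Subgroup.inf_relIndex_right, hCD]
  have e2 : (Subgroup.centralizer (F : Set H)).relIndex D = (scalars ρ).relIndex D := by
    rw [← Subgroup.inf_relIndex_right, hCFD]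
  have h1 := hρ.relIndex_le_of_pairing F D hDF fun x hx e he => hρ.commutator_mem hx he
  have h2 := hρ.relIndex_le_of_pairing D F le_rfl fun x hx e he => hρ.commutator_mem (hDF hx) he
  rw [e1, e2] at h1 h2
  refine ⟨D.relIndex F, ?_⟩
  rw [← Subgroup.relIndex_mul_relIndex _ D F hZD hDF, le_antisymm h2 h1]

/-- Its prime divisors divide the degree. -/
theorem prime_dvd_finrank [FiniteDimensional k V] {q : ℕ} (hq : q.Prime)
    (hdvd : q ∣ (scalars ρ).relIndex (fittingSubgroup H)) : q ∣ finrank k V := by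
  have := hρ.scalars_normal
  have := Fact.mk hq
  have := hρ.nt
  set F := fittingSubgroup H with hF
  obtain ⟨u, hu⟩ := exists_prime_orderOf_dvd_card' (G := F ⧸ (scalars ρ).subgroupOf F) q hdvd
  obtain ⟨x, rfl⟩ := QuotientGroup.mk_surjective u
  have hxq : (x : H) ^ q ∈ scalars ρ := by
    have h := pow_orderOf_eq_one (QuotientGroup.mk x : F ⧸ (scalars ρ).subgroupOf F)
    rw [hu, ← QuotientGroup.mk_pow, QuotientGroup.eq_one_iff, Subgroup.mem_subgroupOf] at h
    simpa using h
  have hxn : (x : H) ∉ scalars ρ := fun h => hq.ne_one (by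
    rw [← hu, (QuotientGroup.eq_one_iff x).mpr (Subgroup.mem_subgroupOf.mpr h), orderOf_one])
  obtain ⟨e, he, hne⟩ : ∃ e ∈ F, (x : H) * e ≠ e * x := by
    by_contra! h
    exact hxn (hρ.centralizer_fitting_le
      (Subgroup.mem_centralizer_iff.mpr fun e he => (h e he).symm))
  obtain ⟨c, hc⟩ := hρ.commutator_mem he x.2
  have hce : e * x * e⁻¹ = (x : H) * ⁅e, (x : H)⁆ := by
    rw [Subgroup.mem_center_iff.mp (hρ.scalars_le_center (hρ.commutator_mem he x.2)) (x : H)]
    group
  have hcd := hρ.pow_finrank_eq_one hc hce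
  have hzq : ⁅e, (x : H)⁆ ^ q = 1 := by
    have hcomm : Commute (x : H) ⁅e, (x : H)⁆ :=
      Subgroup.mem_center_iff.mp (hρ.scalars_le_center (hρ.commutator_mem he x.2)) (x : H)
    have h1 : (e * x * e⁻¹) ^ q = (x : H) ^ q * ⁅e, (x : H)⁆ ^ q := by
      rw [hce, hcomm.mul_pow]
    rw [conj_pow, Subgroup.mem_center_iff.mp (hρ.scalars_le_center hxq) e,
      mul_inv_cancel_right, left_eq_mul] at h1
    exact h1
  have hcq : c ^ q = 1 := by
    have h := congrArg ρ hzq
    rw [map_pow, hc, smul_pow, one_pow, map_one, ← one_smul k (1 : Module.End k V), smul_smul,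
      mul_one] at h
    exact smul_left_injective k one_ne_zero h
  by_contra hnd
  have hg := pow_gcd_eq_one.mpr ⟨hcq, hcd⟩
  rw [((Nat.Prime.coprime_iff_not_dvd hq).mpr hnd).gcd_eq_one, pow_one] at hg
  rw [hg, one_smul, ← map_one ρ] at hc
  exact hne (commutatorElement_eq_one_iff_mul_comm.mp (hρ.inj hc)).symm

end IsPrim

end CfsgLib.ClassLowerSharp
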