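import Mathlib
import Cfsg.Agent.Lib.ClassLowerSharp.Prim

/-!
The index of the scalars in a solvable group all of whose abelian normal subgroups are scalar.
-/

set_option autoImplicit false
set_option linter.style.haveILetI false

namespace CfsgLib.ClassLowerSharp

open Module Cfsg
open scoped commutatorElement

universe u v w

/-- The product of the distinct prime divisors. -/
def radical' (r : ℕ) : ℕ := ∏ p ∈ r.primeFactors, p

theorem radical'_pos (r : ℕ) : 0 < radical' r :=
  Finset.prod_pos fun _ hp => (Nat.prime_of_mem_primeFactors hp).pos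

theorem two_le_radical' {r : ℕ} (hr : 2 ≤ r) : 2 ≤ radical' r := by
  obtain ⟨q, hq, hqr⟩ := Nat.exists_prime_and_dvd (show r ≠ 1 by omega)
  exact hq.two_le.trans (Nat.le_of_dvd (radical'_pos r) (Finset.dvd_prod_of_mem (fun p => p)
    (Nat.mem_primeFactors.mpr ⟨hq, hqr, by omega⟩)))

theorem radical'_dvd_of_forall {r m : ℕ} (h : ∀ q, q.Prime → q ∣ r → q ∣ m) : radical' r ∣ m :=
  Finset.prod_primes_dvd m (fun p hp => Nat.prime_iff.mp (Nat.prime_of_mem_primeFactors hp))
    fun p hp => h p (Nat.prime_of_mem_primeFactors hp) (Nat.dvd_of_mem_primeFactors hp)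

/-- The bound on the index of a centralizer, with fuel. -/
def gqf : ℕ → ℕ → ℕ
  | 0, _ => 1
  | f + 1, r => if r ≤ 1 then 1 else r * gqf f (r / radical' r)

theorem gqf_pos : ∀ f r, 0 < gqf f r
  | 0, _ => one_pos
  | f + 1, r => by
    rw [gqf]
    split
    · exact one_pos
    · exact Nat.mul_pos (by omega) (gqf_pos f _)

theorem gqf_succ : ∀ f r, r < 2 ^ f → gqf (f + 1) r = gqf f r := by
  intro f
  induction f with
  | zero => intro r hr; simp [gqf, show r = 0 by simpa using hr]
  | succ f ih =>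
    intro r hr
    show (if r ≤ 1 then 1 else r * gqf (f + 1) (r / radical' r)) =
      if r ≤ 1 then 1 else r * gqf f (r / radical' r)
    split
    · rfl
    · rename_i h
      rw [ih]
      refine Nat.div_lt_of_lt_mul (lt_of_lt_of_le hr ?_)
      rw [pow_succ']
      exact Nat.mul_le_mul_right _ (two_le_radical' (by omega))

theorem gqf_eq {f g r : ℕ} (hf : r < 2 ^ f) (hfg : f ≤ g) : gqf g r = gqf f r := by
  induction g, hfg using Nat.le_induction with
  | base => rfl
  | succ g hg ih => rw [gqf_succ g r (lt_of_lt_of_le hf (Nat.pow_le_pow_right (by norm_num) hg)), ih]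

/-- The bound on the index of a centralizer. -/
def gq (r : ℕ) : ℕ := gqf r r

theorem gq_pos (r : ℕ) : 0 < gq r := gqf_pos r r

theorem gq_eq_gqf {r f : ℕ} (hf : r < 2 ^ f) : gq r = gqf f r := by
  rcases le_total r f with h | h
  · exact (gqf_eq Nat.lt_two_pow_self h).symm
  · exact gqf_eq hf h

theorem gq_of_two_le {r : ℕ} (hr : 2 ≤ r) : gq r = r * gq (r / radical' r) := by
  have h1 : gq r = gqf (r + 1) r := gq_eq_gqf (lt_trans Nat.lt_two_pow_self
    (Nat.pow_lt_pow_right (by norm_num) (Nat.lt_succ_self r)))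
  rw [h1, gqf, if_neg (by omega), ← gq_eq_gqf]
  exact lt_of_le_of_lt (Nat.div_le_self _ _) Nat.lt_two_pow_self

theorem gq_mono {r t : ℕ} (h : r ∣ t) (ht : 0 < t) : gq r ≤ gq t := by
  induction t using Nat.strong_induction_on generalizing r with
  | _ t IH =>
  have hr : 0 < r := Nat.pos_of_dvd_of_pos h ht
  rcases Nat.lt_or_ge r 2 with hr2 | hr2
  · obtain rfl : r = 1 := by omega
    exact gq_pos t
  have htr : r ≤ t := Nat.le_of_dvd ht h
  rw [gq_of_two_le hr2, gq_of_two_le (hr2.trans htr)]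
  obtain ⟨u, rfl⟩ := h
  have hu : u ≠ 0 := by rintro rfl; simp at ht
  refine Nat.mul_le_mul htr (IH _ (Nat.div_lt_self ht (two_le_radical' (hr2.trans htr))) ?_ ?_)
  · have h1 : radical' (r * u) ∣ radical' r * u := by
      refine dvd_trans ?_ (mul_dvd_mul_left _ (Nat.prod_primeFactors_dvd u))
      rw [radical', radical', Nat.primeFactors_mul hr.ne' hu,
        ← Finset.prod_union_inter]
      exact dvd_mul_right _ _
    obtain ⟨a, ha⟩ : radical' r ∣ r := Nat.prod_primeFactors_dvd r
    obtain ⟨b, hb⟩ : radical' (r * u) ∣ r * u := Nat.prod_primeFactors_dvd _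
    have e1 : r / radical' r = a := Nat.div_eq_of_eq_mul_right (radical'_pos r) ha
    have e2 : r * u / radical' (r * u) = b := Nat.div_eq_of_eq_mul_right (radical'_pos _) hb
    rw [e1, e2]
    obtain ⟨c, hc⟩ := h1
    refine ⟨c, Nat.eq_of_mul_eq_mul_left (radical'_pos (r * u)) ?_⟩
    calc radical' (r * u) * b = r * u := hb.symm
      _ = radical' r * a * u := by rw [← ha]
      _ = radical' r * u * a := by ring
      _ = _ := by rw [hc]; ring
  · exact Nat.div_pos (Nat.le_of_dvd ht (Nat.prod_primeFactors_dvd _)) (radical'_pos _)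

/-- The bound on the order of the group modulo scalars, given the order `N` of the Fitting
subgroup modulo scalars. -/
def qb (N : ℕ) : ℕ := if N ≤ 1 then 1 else N * ((N - 1) * gq (N / radical' N))

namespace IsPrim

variable {k : Type w} [Field k] {H : Type u} [Group H] [Finite H] {V : Type v} [AddCommGroup V]
  [Module k V] {ρ : H →* Module.End k V} (hρ : IsPrim ρ)
include hρ

/-- The conjugates of `x`, counted by cosets of the scalars. -/
theorem card_conjugates_le {D : Subgroup H} {x : H} (hx : x ∈ fittingSubgroup H) {m : ℕ}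
    (hm : 0 < m) (hxm : x ^ m ∈ D)
    (S : Set (fittingSubgroup H ⧸ (scalars ρ).subgroupOf (fittingSubgroup H))) {t : ℕ}
    (hS : Nat.card S ≤ t)
    (himg : ∀ (a : fittingSubgroup H), (∃ g ∈ Subgroup.centralizer (D : Set H),
      g * x * g⁻¹ = (a : H)) → (a : fittingSubgroup H ⧸ _) ∈ S) :
    Nat.card {a : H // ∃ g ∈ Subgroup.centralizer (D : Set H), g * x * g⁻¹ = a} ≤ t * m := by
  classical
  have := hρ.nt
  have : (fittingSubgroup H).Normal := Cores.fittingSubgroup_normal H
  let O := {a : H // ∃ g ∈ Subgroup.centralizer (D : Set H), g * x * g⁻¹ = a}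
  have hOF : ∀ a : O, (a : H) ∈ fittingSubgroup H := fun a => by
    obtain ⟨g, _, hg⟩ := a.2
    rw [← hg]; exact Subgroup.Normal.conj_mem inferInstance x hx g
  have hOm : ∀ a : O, (a : H) ^ m = x ^ m := fun a => by
    obtain ⟨g, hgD, hg⟩ := a.2
    rw [← hg, conj_pow, ← Subgroup.mem_centralizer_iff.mp hgD _ hxm, mul_inv_cancel_right]
  let π : O → S := fun a => ⟨((⟨a, hOF a⟩ : fittingSubgroup H) : fittingSubgroup H ⧸ _), himg ⟨a, hOF a⟩ a.2⟩
  have : Fintype O := Fintype.ofFinite _
  have : Fintype S := Fintype.ofFinite _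
  rw [Nat.card_eq_fintype_card] at hS
  rw [Nat.card_eq_fintype_card, ← Finset.card_univ, mul_comm]
  refine le_trans (Finset.card_le_mul_card_image _ m (f := π) fun q _ => ?_)
    (Nat.mul_le_mul_left m ((Finset.card_le_univ _).trans hS))
  by_cases hne : (Finset.univ.filter fun a => π a = q) = ∅
  · simp [hne]
  obtain ⟨a0, ha0⟩ := Finset.nonempty_iff_ne_empty.mpr hne
  have hz : ∀ a : O, π a = q → (a0 : H)⁻¹ * a ∈ scalars ρ := fun a ha => by
    have h : ((⟨a0, hOF a0⟩ : fittingSubgroup H) : fittingSubgroup H ⧸ (scalars ρ).subgroupOf (fittingSubgroup H)) = ((⟨a, hOF a⟩ : fittingSubgroup H) : fittingSubgroup H ⧸ _) :=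
      congrArg Subtype.val ((Finset.mem_filter.mp ha0).2.trans ha.symm)
    rw [QuotientGroup.eq, Subgroup.mem_subgroupOf] at h
    exact h
  choose c hc using fun a : {a // π a = q} => hz a.1 a.2
  have hroot : ∀ a, c a ∈ (Polynomial.nthRoots m (1 : k)).toFinset := fun a => by
    rw [Multiset.mem_toFinset, Polynomial.mem_nthRoots hm]
    have hcomm : Commute (a0 : H) ((a0 : H)⁻¹ * a.1) :=
      Subgroup.mem_center_iff.mp (hρ.scalars_le_center (hz a.1 a.2)) _
    have h1 : ((a0 : H)⁻¹ * a.1) ^ m = 1 := by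
      have h2 := hcomm.mul_pow m
      rw [mul_inv_cancel_left, hOm, hOm, left_eq_mul] at h2
      exact h2
    have h2 := congrArg ρ h1
    rw [map_pow, hc, smul_pow, one_pow, map_one, ← one_smul k (1 : Module.End k V), smul_smul,
      mul_one] at h2
    exact smul_left_injective k one_ne_zero h2
  rw [← Fintype.card_subtype]
  refine le_trans (Fintype.card_le_of_injective
    (fun a => (⟨c a, hroot a⟩ : (Polynomial.nthRoots m (1 : k)).toFinset)) fun a b h => ?_) ?_
  · have h1 : ρ ((a0 : H)⁻¹ * a.1) = ρ ((a0 : H)⁻¹ * b.1) := by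
      rw [hc, hc, show c a = c b from congrArg Subtype.val h]
    exact Subtype.ext (Subtype.ext (mul_left_cancel (hρ.inj h1)))
  · rw [Fintype.card_coe]
    exact (Multiset.toFinset_card_le _).trans (Polynomial.card_nthRoots m 1)

/-- An element of maximal order of the Fitting subgroup modulo `D`. -/
theorem exists_max_order {D : Subgroup H} (hZD : scalars ρ ≤ D) (hDF : D ≤ fittingSubgroup H)
    (hr : 2 ≤ D.relIndex (fittingSubgroup H)) :
    ∃ x ∈ fittingSubgroup H, ∃ m, 2 ≤ m ∧ x ^ m ∈ D ∧
      radical' (D.relIndex (fittingSubgroup H)) ∣ m ∧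
      (D ⊔ Subgroup.zpowers x) ≤ fittingSubgroup H ∧
      (D ⊔ Subgroup.zpowers x).relIndex (fittingSubgroup H) * m =
        D.relIndex (fittingSubgroup H) := by
  classical
  set F := fittingSubgroup H with hF
  have hcomm : ∀ a ∈ F, ∀ b ∈ F, ⁅a, b⁆ ∈ D := fun a ha b hb => hZD (hρ.commutator_mem ha hb)
  have hn : (D.subgroupOf F).Normal := ⟨fun n hn g => by
    rw [Subgroup.mem_subgroupOf] at hn ⊢
    have e : ((g * n * g⁻¹ : F) : H) = ⁅(g : H), (n : H)⁆ * n := by push_cast; group
    rw [e]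
    exact mul_mem (hcomm _ g.2 _ n.2) hn⟩
  letI : CommGroup (F ⧸ D.subgroupOf F) :=
    { (inferInstance : Group (F ⧸ D.subgroupOf F)) with
      mul_comm := fun a b => by
        obtain ⟨a, rfl⟩ := QuotientGroup.mk_surjective a
        obtain ⟨b, rfl⟩ := QuotientGroup.mk_surjective b
        rw [← QuotientGroup.mk_mul, ← QuotientGroup.mk_mul, QuotientGroup.eq,
          Subgroup.mem_subgroupOf]
        have e : (((a * b)⁻¹ * (b * a) : F) : H) = ⁅((b : H))⁻¹, ((a : H))⁻¹⁆ := by
          push_cast; group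
        rw [e]
        exact hcomm _ (inv_mem b.2) _ (inv_mem a.2) }
  obtain ⟨u, hu⟩ := Monoid.exists_orderOf_eq_exponent (G := F ⧸ D.subgroupOf F)
    Monoid.ExponentExists.of_finite
  obtain ⟨x, rfl⟩ := QuotientGroup.mk_surjective u
  set m := orderOf (QuotientGroup.mk x : F ⧸ D.subgroupOf F) with hm
  have hcard : Nat.card (F ⧸ D.subgroupOf F) = D.relIndex F := rfl
  have hrad : ∀ q, q.Prime → q ∣ D.relIndex F → q ∣ m := fun q hq hqr => by
    have := Fact.mk hq
    obtain ⟨v, hv⟩ := exists_prime_orderOf_dvd_card' (G := F ⧸ D.subgroupOf F) q hqr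
    rw [hu, ← hv]
    exact Monoid.order_dvd_exponent v
  have hm2 : 2 ≤ m := by
    have h := Nat.le_of_dvd (orderOf_pos _) (radical'_dvd_of_forall hrad)
    exact (two_le_radical' hr).trans h
  have hle : D ⊔ Subgroup.zpowers (x : H) ≤ F := sup_le hDF ((Subgroup.zpowers_le).mpr x.2)
  refine ⟨x, x.2, m, hm2, ?_, radical'_dvd_of_forall hrad, hle, ?_⟩
  · have h := pow_orderOf_eq_one (QuotientGroup.mk x : F ⧸ D.subgroupOf F)
    rw [← QuotientGroup.mk_pow, QuotientGroup.eq_one_iff, Subgroup.mem_subgroupOf] at h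
    simpa using h
  · have e : (D ⊔ Subgroup.zpowers (x : H)).subgroupOf F =
        (Subgroup.zpowers (QuotientGroup.mk x : F ⧸ D.subgroupOf F)).comap
          (QuotientGroup.mk' (D.subgroupOf F)) := by
      have h1 : (Subgroup.zpowers (QuotientGroup.mk x : F ⧸ D.subgroupOf F)) =
          (Subgroup.zpowers x).map (QuotientGroup.mk' (D.subgroupOf F)) := by
        rw [MonoidHom.map_zpowers]; rfl
      rw [h1, QuotientGroup.comap_map_mk',
        Subgroup.subgroupOf_sup hDF ((Subgroup.zpowers_le).mpr x.2)]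
      congr 1
      have h2 : (Subgroup.zpowers (x : H)) = (Subgroup.zpowers x).map F.subtype := by
        rw [MonoidHom.map_zpowers]; rfl
      rw [h2]
      exact Subgroup.comap_map_eq_self_of_injective F.subtype_injective _
    rw [Subgroup.relIndex, e, Subgroup.index_comap_of_surjective _ (QuotientGroup.mk'_surjective _),
      hm, ← Nat.card_zpowers, mul_comm, Subgroup.card_mul_index, hcard]

/-- The index of the scalars is bounded in terms of the Fitting subgroup. -/
theorem index_scalars_le :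
    (scalars ρ).index ≤ qb ((scalars ρ).relIndex (fittingSubgroup H)) := by
  classical
  set F := fittingSubgroup H with hF
  set N := (scalars ρ).relIndex F with hN
  have := hρ.scalars_normal
  have hFn : F.Normal := Cores.fittingSubgroup_normal H
  have hCF : Subgroup.centralizer (F : Set H) = scalars ρ :=
    le_antisymm hρ.centralizer_fitting_le (hρ.centralizer_scalars F)
  rcases Nat.lt_or_ge N 2 with hN1 | hN2
  · have hN1' : N = 1 := by
      have : 0 < N := relIndex_pos
      omega
    have hFZ : F = scalars ρ :=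
      le_antisymm (Subgroup.relIndex_eq_one.mp hN1') hρ.scalars_le_fitting
    have htop : Subgroup.centralizer (F : Set H) = ⊤ :=
      Subgroup.centralizer_eq_top_iff_subset.mpr (hFZ ▸ hρ.scalars_le_center)
    rw [← hCF, htop, Subgroup.index_top, qb, if_pos (by omega)]
  -- invariant
  let P : Subgroup H → Prop := fun D => scalars ρ ≤ D ∧ D ≤ F ∧
    (Subgroup.centralizer (D : Set H)).index * (gq (D.relIndex F) * D.relIndex F) ≤ qb N
  have hstep : ∀ D, scalars ρ ≤ D → D ≤ F → 2 ≤ D.relIndex F → ∀ B : ℕ,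
      (∀ x ∈ F, x ∉ D → ∀ m, 0 < m → x ^ m ∈ D →
        Nat.card {a : H // ∃ g ∈ Subgroup.centralizer (D : Set H), g * x * g⁻¹ = a} ≤ B * m) →
      ∃ D', scalars ρ ≤ D' ∧ D' ≤ F ∧ Nat.card D < Nat.card D' ∧
        (Subgroup.centralizer (D' : Set H)).index * (gq (D'.relIndex F) * D'.relIndex F) ≤
        (Subgroup.centralizer (D : Set H)).index * B *
          (gq (D.relIndex F / radical' (D.relIndex F)) * D.relIndex F) := by
    intro D hZD hDF hr B hB
    obtain ⟨x, hxF, m, hm2, hxm, hrad, hle, hidx⟩ := hρ.exists_max_order hZD hDF hr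
    have hxD : x ∉ D := fun hxD => by
      have h : D ⊔ Subgroup.zpowers x = D := sup_eq_left.mpr ((Subgroup.zpowers_le).mpr hxD)
      rw [h] at hidx
      nlinarith
    set D' := D ⊔ Subgroup.zpowers x with hD'
    refine ⟨D', hZD.trans le_sup_left, hle, ?_, ?_⟩
    · refine lt_of_le_of_ne (Subgroup.card_le_of_le le_sup_left) fun h => hxD ?_
      exact (Subgroup.eq_of_le_of_card_ge le_sup_left h.ge).ge
        (le_sup_right (a := D) (Subgroup.mem_zpowers x))
    · have h1 := index_centralizer_step D x (hB x hxF hxD m (by omega) hxm)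
      have hdvd : D'.relIndex F ∣ D.relIndex F / radical' (D.relIndex F) := by
        obtain ⟨j, hj⟩ := hrad
        refine ⟨j, Nat.div_eq_of_eq_mul_right (radical'_pos _) ?_⟩
        conv_lhs => rw [← hidx, hj]
        ring
      have h2 : gq (D'.relIndex F) ≤ gq (D.relIndex F / radical' (D.relIndex F)) :=
        gq_mono hdvd (Nat.div_pos (Nat.le_of_dvd (by omega) (Nat.prod_primeFactors_dvd _))
          (radical'_pos _))
      calc (Subgroup.centralizer (D' : Set H)).index * (gq (D'.relIndex F) * D'.relIndex F)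
          ≤ (Subgroup.centralizer (D : Set H)).index * (B * m) *
            (gq (D.relIndex F / radical' (D.relIndex F)) * D'.relIndex F) :=
            Nat.mul_le_mul h1 (Nat.mul_le_mul_right _ h2)
        _ = _ := by rw [← hidx]; ring
  -- first step
  obtain ⟨D1, hD1⟩ : ∃ D1, P D1 := by
    obtain ⟨D', h1, h2, _, h4⟩ := hstep (scalars ρ) le_rfl hρ.scalars_le_fitting hN2 (N - 1)
      (fun x hxF hxD m hm hxm => by
        refine hρ.card_conjugates_le hxF hm hxm {1}ᶜ (le_of_eq ?_) fun a ⟨g, _, hg⟩ => ?_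
        · rw [Nat.card_coe_set_eq, Set.ncard_compl, Set.ncard_singleton]; rfl
        · intro ha
          rw [Set.mem_singleton_iff, QuotientGroup.eq_one_iff, Subgroup.mem_subgroupOf] at ha
          refine hxD ?_
          have e : x = g⁻¹ * (a : H) * g⁻¹⁻¹ := by rw [← hg]; group
          rw [e]; exact Subgroup.Normal.conj_mem inferInstance _ ha _)
    refine ⟨D', h1, h2, h4.trans (le_of_eq ?_)⟩
    have htop : Subgroup.centralizer ((scalars ρ : Subgroup H) : Set H) = ⊤ :=
      Subgroup.centralizer_eq_top_iff_subset.mpr hρ.scalars_le_center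
    rw [htop, Subgroup.index_top, qb, if_neg (by omega), hN]; ring
  obtain ⟨D, hD, hmax⟩ := Set.exists_max_image {D : Subgroup H | P D} (fun D => Nat.card D)
    (Set.toFinite _) ⟨D1, hD1⟩
  obtain ⟨hZD, hDF, hb⟩ := hD
  rcases Nat.lt_or_ge (D.relIndex F) 2 with hr | hr
  · have hr1 : D.relIndex F = 1 := by
      have : 0 < D.relIndex F := relIndex_pos
      omega
    have hDeq : D = F := le_antisymm hDF (Subgroup.relIndex_eq_one.mp hr1)
    rw [hr1, hDeq, hCF, mul_one] at hb
    exact le_trans (Nat.le_mul_of_pos_right _ (gq_pos 1)) hb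
  exfalso
  have hC : (scalars ρ).relIndex (Subgroup.centralizer (D : Set H) ⊓ F) ≤ D.relIndex F := by
    have h1 := hρ.relIndex_le_of_pairing (Subgroup.centralizer (D : Set H) ⊓ F) F le_rfl
      fun a ha e he => hρ.commutator_mem ha.2 he
    rw [hCF] at h1
    refine h1.trans (Nat.le_of_dvd relIndex_pos (Subgroup.relIndex_dvd_of_le_left F ?_))
    intro d hd
    exact Subgroup.mem_centralizer_iff.mpr fun a ha =>
      (Subgroup.mem_centralizer_iff.mp ha.1 d hd).symm
  obtain ⟨D', h1, h2, h3, h4⟩ := hstep D hZD hDF hr (D.relIndex F) (fun x hxF hxD m hm hxm => by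
    set C := Subgroup.centralizer (D : Set H) ⊓ F with hCdef
    let f : (C.subgroupOf F) ⧸ ((scalars ρ).subgroupOf F).subgroupOf (C.subgroupOf F) →
        F ⧸ (scalars ρ).subgroupOf F :=
      fun q => ((⟨x, hxF⟩ : F) : F ⧸ _) * ((q.out : F) : F ⧸ _)
    refine hρ.card_conjugates_le hxF hm hxm (Set.range f) ?_ fun a ⟨g, hgD, hg⟩ => ?_
    · refine le_trans ?_ hC
      refine (Finite.card_range_le f).trans (le_of_eq ?_)
      show ((scalars ρ).subgroupOf F).relIndex (C.subgroupOf F) = _
      exact Subgroup.relIndex_subgroupOf (inf_le_right : C ≤ F)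
    · have hy : (⟨x, hxF⟩ : F)⁻¹ * a ∈ C.subgroupOf F := by
        rw [Subgroup.mem_subgroupOf]
        refine ⟨Subgroup.mem_centralizer_iff.mpr fun d hd => ?_, (((⟨x, hxF⟩ : F)⁻¹ * a).2)⟩
        have hg' : g * d = d * g := (Subgroup.mem_centralizer_iff.mp hgD d hd).symm
        have e1 : (a : H) * d * (a : H)⁻¹ = g * (x * d * x⁻¹) * g⁻¹ := by
          calc (a : H) * d * (a : H)⁻¹ = g * x * (g⁻¹ * (d * g)) * x⁻¹ * g⁻¹ := by rw [← hg]; group
            _ = _ := by rw [← hg']; group
        obtain ⟨z, hz, hzz⟩ : ∃ z ∈ scalars ρ, x * d * x⁻¹ = z * d :=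
          ⟨⁅x, d⁆, hρ.commutator_mem hxF (hDF hd), by group⟩
        have e2 : g * (x * d * x⁻¹) * g⁻¹ = x * d * x⁻¹ := by
          rw [hzz, ← mul_assoc, Subgroup.mem_center_iff.mp (hρ.scalars_le_center hz) g, mul_assoc z,
            hg', ← mul_assoc, mul_inv_cancel_right]
        push_cast
        calc d * (x⁻¹ * (a : H)) = x⁻¹ * (x * d * x⁻¹) * a := by group
          _ = x⁻¹ * ((a : H) * d * (a : H)⁻¹) * a := by rw [e1, e2]
          _ = x⁻¹ * a * d := by group
      refine ⟨(⟨_, hy⟩ : C.subgroupOf F), ?_⟩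
      obtain ⟨z, hz⟩ := QuotientGroup.mk_out_eq_mul
        (((scalars ρ).subgroupOf F).subgroupOf (C.subgroupOf F)) (⟨_, hy⟩ : C.subgroupOf F)
      simp only [f]
      rw [hz, ← QuotientGroup.mk_mul, QuotientGroup.eq]
      push_cast
      have e : ((⟨x, hxF⟩ : F) * ((⟨x, hxF⟩ : F)⁻¹ * a * ((z.1 : C.subgroupOf F) : F)))⁻¹ * a =
          ((z.1 : C.subgroupOf F) : F)⁻¹ := by group
      rw [e]
      exact inv_mem z.2)
  refine absurd (hmax D' ⟨h1, h2, h4.trans (le_trans (le_of_eq ?_) hb)⟩) (not_le.mpr h3)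
  rw [gq_of_two_le hr]; ring

end IsPrim

end CfsgLib.ClassLowerSharp
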