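import Mathlib
import Cfsg.Agent.Lib.ClassLowerSharp.Count

/-!
The numerical bounds.
-/

set_option autoImplicit false

namespace CfsgLib.ClassLowerSharp

/-- Ten times the ratio bound in dimension `d` used in the recursion. -/
def bnd (p d : ℕ) : ℕ :=
  if d ≤ 1 then 10 else if d = 2 then 60 else if d = 8 then 110 * p ^ 6 else 59 * p ^ (d - 2)

/-- Ten times the strong ratio bound. -/
def sbnd (p d : ℕ) : ℕ :=
  if d ≤ 1 then 10 else if d = 2 then 48 else 59 * p ^ (d - 2)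

theorem sbnd_le_bnd (p d : ℕ) : sbnd p d ≤ bnd p d := by
  unfold sbnd bnd
  split_ifs with h1 h2 h3 <;> try omega
  subst h3
  exact Nat.mul_le_mul_right _ (by norm_num)

theorem bnd_le (p : ℕ) {b : ℕ} (hb : 2 ≤ b) : bnd p b ≤ 110 * p ^ (b - 2) := by
  unfold bnd
  rw [if_neg (by omega)]
  split_ifs with h2 h8
  · subst h2; norm_num
  · subst h8; norm_num
  · exact Nat.mul_le_mul_right _ (by norm_num)

theorem add_bound {p a b : ℕ} (hp : 11 ≤ p) (ha : 1 ≤ a) (hb : 1 ≤ b) :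
    bnd p a * bnd p b ≤ 10 * sbnd p (a + b) := by
  wlog hab : a ≤ b generalizing a b
  · rw [mul_comm, add_comm]; exact this hb ha (le_of_not_ge hab)
  rcases eq_or_lt_of_le ha with rfl | ha2
  · rcases eq_or_lt_of_le hb with rfl | hb2
    · simp [bnd, sbnd]
    · rw [show sbnd p (1 + b) = 59 * p ^ (b - 1) by
        rw [sbnd, if_neg (by omega), if_neg (by omega)]; congr 2; omega]
      rw [show bnd p 1 = 10 by simp [bnd]]
      refine Nat.mul_le_mul_left 10 ((bnd_le p hb2).trans ?_)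
      obtain ⟨c, rfl⟩ := Nat.exists_eq_add_of_le hb2
      rw [show 2 + c - 1 = c + 1 by omega, show 2 + c - 2 = c by omega, pow_succ', ← mul_assoc]
      exact Nat.mul_le_mul_right _ (by omega)
  · obtain ⟨u, rfl⟩ := Nat.exists_eq_add_of_le ha2
    obtain ⟨v, rfl⟩ := Nat.exists_eq_add_of_le (le_trans (Nat.le_add_right _ _) hab)
    refine le_trans (Nat.mul_le_mul (bnd_le p (by omega)) (bnd_le p (by omega))) ?_
    rw [sbnd, if_neg (by omega), if_neg (by omega),
      show Nat.succ 1 + u + (Nat.succ 1 + v) - 2 = 2 + (u + v) by omega,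
      show Nat.succ 1 + u - 2 = u by omega, show Nat.succ 1 + v - 2 = v by omega, pow_add, pow_add]
    have h : 121 ≤ p ^ 2 := Nat.pow_le_pow_left hp 2
    calc 110 * p ^ u * (110 * p ^ v) = 12100 * (p ^ u * p ^ v) := by ring
      _ ≤ 590 * p ^ 2 * (p ^ u * p ^ v) := Nat.mul_le_mul_right _ (by omega)
      _ = 10 * (59 * (p ^ 2 * (p ^ u * p ^ v))) := by ring

/-- The bound for `n` equal blocks of dimension `b`. -/
theorem blocks_bound {p n b T : ℕ} (hp : 11 ≤ p) (hn : 2 ≤ n) (hb : 1 ≤ b)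
    (h13 : 13 ≤ p ∨ n * b ≤ 6) (hT3 : T ≤ 3 ^ (n - 1)) (hTf : T ≤ n.factorial) :
    10 * (T ^ 2 * bnd p b ^ n) ≤ sbnd p (n * b) * 10 ^ n := by
  obtain ⟨m, rfl⟩ := Nat.exists_eq_add_of_le hn
  have hT9 : T ^ 2 ≤ 9 ^ (m + 1) := by
    refine (Nat.pow_le_pow_left hT3 2).trans (le_of_eq ?_)
    rw [← pow_mul, mul_comm, pow_mul, show 2 + m - 1 = m + 1 by omega]
    norm_num
  have hsb : ∀ d, 3 ≤ d → sbnd p d = 59 * p ^ (d - 2) := fun d hd => by
    rw [sbnd, if_neg (by omega), if_neg (by omega)]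
  have hpb : ∀ j, 11 ^ j ≤ p ^ j := fun j => Nat.pow_le_pow_left hp j
  rcases eq_or_lt_of_le hb with rfl | hb2
  · -- one-dimensional blocks
    rw [show bnd p 1 = 10 by simp [bnd], mul_one]
    rw [← mul_assoc]
    refine Nat.mul_le_mul_right _ ?_
    match m, hTf with
    | 0, hTf =>
      have h : T ^ 2 ≤ 4 := Nat.pow_le_pow_left (hTf.trans_eq rfl) 2
      rw [sbnd]; norm_num; omega
    | 1, hTf =>
      have h : T ^ 2 ≤ 36 := Nat.pow_le_pow_left (hTf.trans_eq rfl) 2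
      rw [hsb _ (by norm_num)]; norm_num; omega
    | 2, hTf =>
      have h : T ^ 2 ≤ 576 := Nat.pow_le_pow_left (hTf.trans_eq rfl) 2
      have := hpb 2
      rw [hsb _ (by norm_num)]; norm_num at *; omega
    | m + 3, _ =>
      rw [hsb _ (by omega), show 2 + (m + 3) - 2 = m + 3 by omega]
      refine le_trans (Nat.mul_le_mul_left 10 hT9) (le_trans ?_ (Nat.mul_le_mul_left 59 (hpb _)))
      rw [show m + 3 + 1 = m + 4 by ring, pow_add 9, pow_add 11]
      have : 9 ^ m ≤ 11 ^ m := Nat.pow_le_pow_left (by norm_num) m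
      norm_num
      omega
  rcases eq_or_lt_of_le (Nat.succ_le_of_lt hb2) with rfl | hb3
  · -- two-dimensional blocks
    rw [show bnd p (Nat.succ 1) = 60 by simp [bnd], hsb _ (by omega),
      show (2 + m) * Nat.succ 1 - 2 = 2 * (m + 1) by omega, pow_mul]
    have h121 : 121 ^ (m + 1) ≤ (p ^ 2) ^ (m + 1) := Nat.pow_le_pow_left (hpb 2) _
    calc 10 * (T ^ 2 * 60 ^ (2 + m)) ≤ 10 * (9 ^ (m + 1) * 60 ^ (2 + m)) := by gcongr
      _ = 10 ^ (2 + m) * (60 * 54 ^ (m + 1)) := by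
          rw [show (60 : ℕ) = 10 * 6 by norm_num, show (54 : ℕ) = 9 * 6 by norm_num,
            mul_pow, mul_pow]; ring
      _ ≤ 10 ^ (2 + m) * (59 * 121 ^ (m + 1)) := by
          refine Nat.mul_le_mul_left _ ?_
          have : 54 ^ m ≤ 121 ^ m := Nat.pow_le_pow_left (by norm_num) m
          rw [pow_succ, pow_succ]
          omega
      _ ≤ 59 * (p ^ 2) ^ (m + 1) * 10 ^ (2 + m) := by rw [mul_comm]; gcongr
  by_cases h8 : b = 8
  · subst h8
    have h13' : 13 ≤ p := h13.resolve_right (by omega)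
    rw [show bnd p 8 = 110 * p ^ 6 by simp [bnd], hsb _ (by omega),
      show (2 + m) * 8 - 2 = 6 * (2 + m) + 2 * (m + 1) by omega, mul_pow, ← pow_mul, pow_add p]
    have h169 : 169 ^ (m + 1) ≤ p ^ (2 * (m + 1)) := by
      rw [pow_mul]; exact Nat.pow_le_pow_left (Nat.pow_le_pow_left h13' 2) _
    suffices h : 10 * (T ^ 2 * 110 ^ (2 + m)) ≤ 10 ^ (2 + m) * (59 * 169 ^ (m + 1)) by
      calc 10 * (T ^ 2 * (110 ^ (2 + m) * p ^ (6 * (2 + m))))
          = 10 * (T ^ 2 * 110 ^ (2 + m)) * p ^ (6 * (2 + m)) := by ring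
        _ ≤ 10 ^ (2 + m) * (59 * p ^ (2 * (m + 1))) * p ^ (6 * (2 + m)) :=
            Nat.mul_le_mul_right _ (h.trans (by gcongr))
        _ = _ := by ring
    rw [show (110 : ℕ) = 10 * 11 by norm_num, mul_pow]
    match m, hTf, hT9 with
    | 0, hTf, _ =>
      have h : T ^ 2 ≤ 4 := Nat.pow_le_pow_left (hTf.trans_eq rfl) 2
      norm_num; omega
    | m + 1, _, hT9 =>
      calc 10 * (T ^ 2 * (10 ^ (2 + (m + 1)) * 11 ^ (2 + (m + 1))))
          = 10 ^ (2 + (m + 1)) * (10 * (T ^ 2 * 11 ^ (2 + (m + 1)))) := by ring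
        _ ≤ 10 ^ (2 + (m + 1)) * (10 * (9 ^ (m + 2) * 11 ^ (2 + (m + 1)))) := by gcongr
        _ = 10 ^ (2 + (m + 1)) * (1078110 * 99 ^ m) := by
            rw [show (99 : ℕ) = 9 * 11 by norm_num, mul_pow, pow_add 9, pow_add 11, pow_add 11]
            ring
        _ ≤ _ := by
            refine Nat.mul_le_mul_left _ ?_
            have : 99 ^ m ≤ 169 ^ m := Nat.pow_le_pow_left (by norm_num) m
            rw [show m + 1 + 1 = m + 2 by ring, pow_add 169]
            norm_num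
            omega
  · obtain ⟨c, rfl⟩ := Nat.exists_eq_add_of_le hb2
    rw [show bnd p (Nat.succ 1 + c) = 59 * p ^ c by
        rw [bnd, if_neg (by omega), if_neg (by omega), if_neg h8]; congr 2; omega,
      hsb _ (by nlinarith),
      show (2 + m) * (Nat.succ 1 + c) - 2 = c * (2 + m) + 2 * (m + 1) by
        rw [show (2 + m) * (Nat.succ 1 + c) = (c * (2 + m) + 2 * (m + 1)) + 2 by ring]; omega,
      mul_pow, ← pow_mul, pow_add p]
    have h121 : 121 ^ (m + 1) ≤ p ^ (2 * (m + 1)) := by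
      rw [pow_mul]; exact Nat.pow_le_pow_left (hpb 2) _
    calc 10 * (T ^ 2 * (59 ^ (2 + m) * p ^ (c * (2 + m))))
        ≤ 10 * (9 ^ (m + 1) * (59 ^ (2 + m) * p ^ (c * (2 + m)))) := by gcongr
      _ = 10 * 59 * 531 ^ (m + 1) * p ^ (c * (2 + m)) := by
          rw [show (531 : ℕ) = 9 * 59 by norm_num, mul_pow]; ring
      _ ≤ 10 * 59 * 1210 ^ (m + 1) * p ^ (c * (2 + m)) := by gcongr <;> norm_num
      _ = 10 ^ (2 + m) * 59 * 121 ^ (m + 1) * p ^ (c * (2 + m)) := by
          rw [show (1210 : ℕ) = 10 * 121 by norm_num, mul_pow]; ring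
      _ ≤ 10 ^ (2 + m) * 59 * p ^ (2 * (m + 1)) * p ^ (c * (2 + m)) := by gcongr
      _ = _ := by ring

/-- Evaluation of the index bound. -/
theorem qb_eq_gqf {N f : ℕ} (hN : 2 ≤ N) (hf : N < 2 ^ f) :
    qb N = N * ((N - 1) * gqf f (N / radical' N)) := by
  rw [qb, if_neg (by omega), gq_eq_gqf (lt_of_le_of_lt (Nat.div_le_self _ _) hf)]

theorem qb_table : ∀ d < 128, (5 ≤ d ∧ d ≠ 8) → ∀ s < d + 1, 2 ≤ s →
    (∀ q ∈ s.primeFactors, q ∣ d) →
    10 * (s * s * ((s * s - 1) * gqf 14 (s * s / radical' (s * s)))) ≤ 59 * 11 ^ (d - 2) := by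
  decide +kernel

theorem gqf_le : ∀ f r, 1 ≤ r → gqf f r ≤ r ^ f
  | 0, _, _ => by simp [gqf]
  | f + 1, r, hr => by
    rw [gqf]
    split
    · exact Nat.one_le_pow _ _ hr
    · rw [pow_succ']
      refine Nat.mul_le_mul_left _ ((gqf_le f _ ?_).trans (Nat.pow_le_pow_left (Nat.div_le_self _ _) _))
      exact Nat.div_pos (Nat.le_of_dvd hr (Nat.prod_primeFactors_dvd r)) (radical'_pos r)

/-- The index bound in dimensions other than the small ones. -/
theorem qb_sq_le {p d s : ℕ} (hp : 11 ≤ p) (hd : 5 ≤ d) (hd8 : d ≠ 8) (hs : s ≤ d)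
    (hdvd : ∀ q ∈ s.primeFactors, q ∣ d) : 10 * qb (s * s) ≤ 59 * p ^ (d - 2) := by
  refine le_trans ?_ (Nat.mul_le_mul_left 59 (Nat.pow_le_pow_left hp _))
  rcases Nat.lt_or_ge s 2 with h1 | h1
  · have : s * s ≤ 1 := by interval_cases s <;> norm_num
    rw [qb, if_pos this]
    have : 0 < 11 ^ (d - 2) := pow_pos (by norm_num) _
    omega
  rcases Nat.lt_or_ge d 128 with hd128 | hd128
  · rw [qb_eq_gqf (f := 14) (by nlinarith) (by nlinarith)]
    exact qb_table d hd128 ⟨hd, hd8⟩ s (by omega) h1 hdvd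
  · set M := Nat.log 2 d with hM
    have hM7 : 7 ≤ M := Nat.le_log_of_pow_le (by norm_num) (by omega)
    have h2 : 2 ^ M ≤ d := Nat.pow_log_le_self 2 (by omega)
    have h3 : d < 2 ^ (M + 1) := Nat.lt_pow_succ_log_self (by norm_num) d
    have hN : s * s < 2 ^ (2 * M + 2) := by
      rw [show 2 * M + 2 = (M + 1) + (M + 1) by ring, pow_add]
      exact Nat.mul_lt_mul'' (by omega) (by omega)
    have hss : 2 ≤ s * s := by nlinarith
    rw [qb_eq_gqf hss hN]
    have hq : gqf (2 * M + 2) (s * s / radical' (s * s)) ≤ (s * s) ^ (2 * M + 2) :=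
      (gqf_le _ _ (Nat.div_pos (Nat.le_of_dvd (by omega) (Nat.prod_primeFactors_dvd _))
        (radical'_pos _))).trans (Nat.pow_le_pow_left (Nat.div_le_self _ _) _)
    have hexp : (2 * M + 2) * (2 * M + 4) ≤ 3 * (d - 2) := by
      have : ∀ j, 7 ≤ j → (2 * j + 2) * (2 * j + 4) + 6 ≤ 3 * 2 ^ j := by
        intro j hj
        induction j, hj using Nat.le_induction with
        | base => norm_num
        | succ i hi ih => rw [pow_succ]; nlinarith
      have := this M hM7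
      omega
    calc 10 * (s * s * ((s * s - 1) * gqf (2 * M + 2) (s * s / radical' (s * s))))
        ≤ 59 * (s * s * (s * s * (s * s) ^ (2 * M + 2))) :=
          Nat.mul_le_mul (by norm_num) (Nat.mul_le_mul_left _
            (Nat.mul_le_mul (Nat.sub_le _ _) hq))
      _ = 59 * (s * s) ^ (2 * M + 4) := by ring
      _ ≤ 59 * (2 ^ (2 * M + 2)) ^ (2 * M + 4) :=
          Nat.mul_le_mul_left _ (Nat.pow_le_pow_left hN.le _)
      _ ≤ 59 * 2 ^ (3 * (d - 2)) := by
          rw [← pow_mul]; exact Nat.mul_le_mul_left _ (Nat.pow_le_pow_right (by norm_num) hexp)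
      _ ≤ 59 * 11 ^ (d - 2) := by
          rw [pow_mul]; exact Nat.mul_le_mul_left _ (Nat.pow_le_pow_left (by norm_num) _)

end CfsgLib.ClassLowerSharp
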