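import Mathlib
import Cfsg.Agent.Lib.ClassLowerSharp.Prim

/-!
Counting classes by cosets of the scalars, and the size of the Fitting subgroup modulo scalars.
-/

set_option autoImplicit false
set_option linter.style.haveILetI false
set_option linter.unusedSectionVars false

namespace CfsgLib.ClassLowerSharp

open Module Cfsg CfsgLib.ClassLower
open scoped commutatorElement

universe u v w

namespace IsPrim

variable {k : Type w} [Field k] {H : Type u} [Group H] [Finite H] {V : Type v} [AddCommGroup V]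
  [Module k V] {ρ : H →* Module.End k V} (hρ : IsPrim ρ)
include hρ

theorem scalar_pow_card {z : H} (hz : z ∈ scalars ρ) {c : k} (hc : ρ z = c • 1) :
    c ^ Nat.card (scalars ρ) = 1 := by
  have := hρ.nt
  have h : z ^ Nat.card (scalars ρ) = 1 :=
    congrArg Subtype.val (pow_card_eq_one' (x := (⟨z, hz⟩ : scalars ρ)))
  have h2 := congrArg ρ h
  rw [map_pow, hc, smul_pow, one_pow, map_one, ← one_smul k (1 : Module.End k V), smul_smul,
    mul_one] at h2
  exact smul_left_injective k one_ne_zero h2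

/-- The scalar by which an element is multiplied under conjugation is a root of unity of every
order killing it modulo scalars. -/
theorem pow_eq_one_of_conj [FiniteDimensional k V] {g h z : H} {c : k} (hz : ρ z = c • 1)
    (hg : g * h * g⁻¹ = h * z) {o : ℕ} (ho : h ^ o ∈ scalars ρ) :
    c ^ Nat.gcd (Nat.gcd (finrank k V) (Nat.card (scalars ρ))) o = 1 := by
  have := hρ.nt
  have hzs : z ∈ scalars ρ := ⟨c, hz⟩
  refine pow_gcd_eq_one.mpr ⟨pow_gcd_eq_one.mpr
    ⟨hρ.pow_finrank_eq_one hz hg, hρ.scalar_pow_card hzs hz⟩, ?_⟩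
  have hcomm : Commute h z := Subgroup.mem_center_iff.mp (hρ.scalars_le_center hzs) h
  have h1 : h ^ o * z ^ o = h ^ o := by
    rw [← hcomm.mul_pow, ← hg, conj_pow, Subgroup.mem_center_iff.mp (hρ.scalars_le_center ho) g,
      mul_inv_cancel_right]
  rw [mul_eq_left] at h1
  have h2 := congrArg ρ h1
  rw [map_pow, hz, smul_pow, one_pow, map_one, ← one_smul k (1 : Module.End k V), smul_smul,
    mul_one] at h2
  exact smul_left_injective k one_ne_zero h2

/-- Classes inside the cosets of scalars of elements not conjugate modulo scalars. -/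
theorem card_mul_sum_le {ι : Type*} [Fintype ι] (h : ι → H) (b : ι → ℕ) (L : ℕ)
    (hb : ∀ i, 0 < b i) (hL : ∀ i, b i ∣ L)
    (hroot : ∀ i (g z : H) (c : k), ρ z = c • 1 → g * h i * g⁻¹ = h i * z → c ^ b i = 1)
    (hne : ∀ i j, i ≠ j → ∀ g : H, (h j)⁻¹ * (g * h i * g⁻¹) ∉ scalars ρ) :
    Nat.card (scalars ρ) * ∑ i, L / b i ≤ L * Nat.card (ConjClasses H) := by
  classical
  have := hρ.nt
  have : Fintype H := Fintype.ofFinite H
  have : Fintype (scalars ρ) := Fintype.ofFinite _
  let f : ι → scalars ρ → ConjClasses H := fun i z => ConjClasses.mk (h i * z)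
  have hconj : ∀ i j (z z' : scalars ρ), f i z = f j z' →
      ∃ g : H, (h j)⁻¹ * (g * h i * g⁻¹) = (z' : H) * (z : H)⁻¹ := by
    intro i j z z' e
    obtain ⟨g, hg⟩ := isConj_iff.mp (ConjClasses.mk_eq_mk_iff_isConj.mp e)
    refine ⟨g, ?_⟩
    have hz : g * (h i * z) * g⁻¹ = g * h i * g⁻¹ * z := by
      rw [← mul_assoc, mul_assoc (g * h i) (z : H), ← Subgroup.mem_center_iff.mp
        (hρ.scalars_le_center z.2) g⁻¹, ← mul_assoc]
    rw [hz] at hg
    rw [eq_mul_inv_iff_mul_eq, mul_assoc, hg, inv_mul_cancel_left]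
  have hfib : ∀ i, Fintype.card (scalars ρ) ≤ b i * (Finset.univ.image (f i)).card := by
    intro i
    rw [← Finset.card_univ]
    refine Finset.card_le_mul_card_image _ _ fun c _ => ?_
    by_cases hne' : ({z | f i z = c} : Finset (scalars ρ)) = ∅
    · simp [hne']
    obtain ⟨z0, hz0⟩ := Finset.nonempty_iff_ne_empty.mpr hne'
    choose a ha using fun z : {z // f i z = c} => mem_scalars.mp (mul_mem z.1.2 (inv_mem z0.2))
    have hr : ∀ z, a z ∈ (Polynomial.nthRoots (b i) (1 : k)).toFinset := fun z => by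
      rw [Multiset.mem_toFinset, Polynomial.mem_nthRoots (hb i)]
      obtain ⟨g, hg⟩ := hconj i i z0 z.1 ((Finset.mem_filter.mp hz0).2.trans z.2.symm)
      exact hroot i g _ _ (ha z) (by rw [← hg, mul_inv_cancel_left])
    rw [← Fintype.card_subtype]
    refine le_trans (Fintype.card_le_of_injective
      (fun z => (⟨a z, hr z⟩ : (Polynomial.nthRoots (b i) (1 : k)).toFinset)) fun z z' e => ?_) ?_
    · have h1 : ρ ((z.1 : H) * (z0 : H)⁻¹) = ρ ((z'.1 : H) * (z0 : H)⁻¹) := by
        rw [ha, ha, show a z = a z' from congrArg Subtype.val e]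
      exact Subtype.ext (Subtype.ext (mul_right_cancel (hρ.inj h1)))
    · rw [Fintype.card_coe]
      exact (Multiset.toFinset_card_le _).trans (Polynomial.card_nthRoots _ 1)
  have hdisj : Set.PairwiseDisjoint (↑(Finset.univ : Finset ι))
      fun i => Finset.univ.image (f i) := by
    intro i _ j _ hij
    rw [Function.onFun, Finset.disjoint_left]
    intro c hc hc'
    obtain ⟨z, _, rfl⟩ := Finset.mem_image.mp hc
    obtain ⟨z', _, e⟩ := Finset.mem_image.mp hc'
    obtain ⟨g, hg⟩ := hconj i j z z' e.symm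
    exact hne i j hij g (hg ▸ mul_mem z'.2 (inv_mem z.2))
  rw [Nat.card_eq_fintype_card, Nat.card_eq_fintype_card, Finset.mul_sum]
  calc ∑ i, Fintype.card (scalars ρ) * (L / b i) ≤ ∑ i, L * (Finset.univ.image (f i)).card := by
        refine Finset.sum_le_sum fun i _ => ?_
        calc Fintype.card (scalars ρ) * (L / b i)
            ≤ b i * (Finset.univ.image (f i)).card * (L / b i) := Nat.mul_le_mul_right _ (hfib i)
          _ = (b i * (L / b i)) * (Finset.univ.image (f i)).card := by ring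
          _ = L * (Finset.univ.image (f i)).card := by rw [Nat.mul_div_cancel' (hL i)]
    _ = L * (Finset.univ.biUnion fun i => Finset.univ.image (f i)).card := by
        rw [← Finset.mul_sum, Finset.card_biUnion hdisj]
    _ ≤ L * Fintype.card (ConjClasses H) := Nat.mul_le_mul_left _ (Finset.card_le_univ _)

/-- The cosets of scalars in the Fitting subgroup give independent endomorphisms. -/
theorem relIndex_le_sq [FiniteDimensional k V] :
    (scalars ρ).relIndex (fittingSubgroup H) ≤ finrank k V * finrank k V := by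
  classical
  have := hρ.nt
  set F := fittingSubgroup H with hF
  let R := F ⧸ (scalars ρ).subgroupOf F
  let f : F → Module.End k (Module.End k V) := fun e => conjL ρ (e : H)
  have hmul : ∀ (a b : H) X, conjL ρ a (conjL ρ b X) = conjL ρ (a * b) X := fun a b X => by
    simp only [conjL_apply, mul_inv_rev, map_mul, mul_assoc]
  have hcomm : ∀ i j, Commute (f i) (f j) := fun i j => LinearMap.ext fun X => by
    show conjL ρ (i : H) (conjL ρ (j : H) X) = conjL ρ (j : H) (conjL ρ (i : H) X)
    rw [hmul, hmul]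
    obtain ⟨c, hc⟩ := hρ.commutator_mem i.2 j.2
    have e1 : (i : H) * j = ⁅(i : H), (j : H)⁆ * ((j : H) * i) := by group
    have e2 : ((i : H) * j)⁻¹ = ((j : H) * i)⁻¹ * ⁅(i : H), (j : H)⁆⁻¹ := by rw [e1, mul_inv_rev]
    rw [conjL_apply, conjL_apply, e2, e1, map_mul ρ ⁅(i : H), (j : H)⁆, hc,
      map_mul ρ ((j : H) * i)⁻¹]
    have h1 : c • ρ ⁅(i : H), (j : H)⁆⁻¹ = 1 := by
      rw [← one_mul (ρ ⁅(i : H), (j : H)⁆⁻¹), ← smul_mul_assoc, ← hc, ← map_mul, mul_inv_cancel,
        map_one]
    calc c • 1 * ρ ((j : H) * i) * X * (ρ ((j : H) * i)⁻¹ * ρ ⁅(i : H), (j : H)⁆⁻¹)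
        = ρ ((j : H) * i) * X * ρ ((j : H) * i)⁻¹ * (c • ρ ⁅(i : H), (j : H)⁆⁻¹) := by
          simp only [smul_mul_assoc, one_mul, mul_smul_comm, mul_assoc]
      _ = _ := by rw [h1, mul_one]
  have hsc : ∀ (e x : F), ∃ c : k, f e (ρ (x : H)) = c • ρ (x : H) := fun e x => by
    obtain ⟨c, hc⟩ := hρ.commutator_mem e.2 x.2
    refine ⟨c, ?_⟩
    show conjL ρ (e : H) (ρ (x : H)) = _
    rw [conjL_apply, ← map_mul, ← map_mul, ← one_mul (ρ (x : H)), ← smul_mul_assoc, ← hc,
      ← map_mul]
    congr 1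
    group
  choose c hc using hsc
  let χ : R → F → k := fun q e => c e q.out
  have hne : ∀ q : R, ρ ((q.out : F) : H) ≠ 0 := fun q h => by
    have h1 : (1 : Module.End k V) = 0 := by
      rw [← map_one ρ, ← mul_inv_cancel ((q.out : F) : H), map_mul, h, zero_mul]
    exact one_ne_zero h1
  have hχ : Function.Injective χ := by
    intro q q' h
    rw [← QuotientGroup.out_eq' q, ← QuotientGroup.out_eq' q', QuotientGroup.eq,
      Subgroup.mem_subgroupOf]
    set x := q.out
    set y := q'.out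
    refine hρ.centralizer_fitting_le (Subgroup.mem_centralizer_iff.mpr fun e he => ?_)
    have h1 : c ⟨e, he⟩ x = c ⟨e, he⟩ y := congrFun h ⟨e, he⟩
    have key : ∀ a : F, ρ ⁅e, (a : H)⁆ = c ⟨e, he⟩ a • 1 := fun a => by
      have h2 : ρ e * ρ (a : H) * ρ e⁻¹ = c ⟨e, he⟩ a • ρ (a : H) :=
        (conjL_apply ρ e (ρ (a : H))).symm.trans (hc ⟨e, he⟩ a)
      rw [commutatorElement_def, map_mul, map_mul, map_mul, h2, smul_mul_assoc, ← map_mul,
        mul_inv_cancel, map_one]
    have h3 : ⁅e, (x : H)⁆ = ⁅e, (y : H)⁆ := hρ.inj (by rw [key, key, h1])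
    push_cast
    have h4 : ⁅e, (x : H)⁆ * x = ⁅e, (y : H)⁆ * x := by rw [h3]
    have hx' : e * (x : H) * e⁻¹ = ⁅e, (y : H)⁆ * x := by rw [← h4]; group
    have hy' : e * (y : H) * e⁻¹ = ⁅e, (y : H)⁆ * y := by group
    have hz := Subgroup.mem_center_iff.mp (hρ.scalars_le_center (hρ.commutator_mem he y.2))
    calc e * ((x : H)⁻¹ * y) = (e * x * e⁻¹)⁻¹ * (e * y * e⁻¹) * e := by group
      _ = (x : H)⁻¹ * y * e := by rw [hx', hy', mul_inv_rev, mul_assoc _ _ (_ * (y : H)),
            inv_mul_cancel_left]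
  have hli : LinearIndependent k fun q : R => ρ ((q.out : F) : H) :=
    iSupIndep.linearIndependent _ ((iSupIndep_jointEig f hcomm).comp hχ)
      (fun q => mem_jointEig.mpr fun e => hc e q.out) hne
  have : Fintype R := Fintype.ofFinite R
  have h := hli.fintype_card_le_finrank
  rwa [← Nat.card_eq_fintype_card, Module.finrank_linearMap k k V V] at h

end IsPrim

end CfsgLib.ClassLowerSharp
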