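import Mathlib
import Cfsg.Agent.Lib.ClassLower.Ratio

/-!
Groups of order at most a rational multiple of their class number.
-/

set_option autoImplicit false

namespace CfsgLib.ClassLowerSharp

open CfsgLib.ClassLower

universe u v

/-- `c` times the order is at most `a` times the class number. -/
def RQ (G : Type u) [Group G] (a c : ℕ) : Prop :=
  c * Nat.card G ≤ a * Nat.card (ConjClasses G)

variable {G : Type u} [Group G]

theorem RQ.le {a c a' c' : ℕ} (h : RQ G a c) (hc : 0 < c) (hac : c' * a ≤ a' * c) : RQ G a' c' := by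
  refine Nat.le_of_mul_le_mul_left ?_ hc
  calc c * (c' * Nat.card G) = c' * (c * Nat.card G) := by ring
    _ ≤ c' * (a * Nat.card (ConjClasses G)) := Nat.mul_le_mul_left _ h
    _ = c' * a * Nat.card (ConjClasses G) := by ring
    _ ≤ a' * c * Nat.card (ConjClasses G) := Nat.mul_le_mul_right _ hac
    _ = c * (a' * Nat.card (ConjClasses G)) := by ring

theorem RQ.congr {H : Type v} [Group H] (e : G ≃* H) {a c : ℕ} (h : RQ G a c) : RQ H a c := by
  unfold RQ
  rw [← Nat.card_congr e.toEquiv, ← card_conjClasses_congr e]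
  exact h

theorem RQ.subgroup [Finite G] {a c : ℕ} (h : RQ G a c) (H : Subgroup G) : RQ H a c := by
  have h2 := (Cfsg.Agent.S4200.result H).2.1
  have h0 := H.card_mul_index
  refine Nat.le_of_mul_le_mul_right (?_ : _ * H.index ≤ _ * H.index)
    (Nat.pos_of_ne_zero Subgroup.index_ne_zero_of_finite)
  calc c * Nat.card H * H.index = c * Nat.card G := by rw [mul_assoc, h0]
    _ ≤ a * Nat.card (ConjClasses G) := h
    _ ≤ a * (H.index * Nat.card (ConjClasses H)) := Nat.mul_le_mul_left _ h2
    _ = a * Nat.card (ConjClasses H) * H.index := by ring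

theorem RQ.of_injective [Finite G] {H : Type v} [Group H] [Finite H] (f : G →* H)
    (hf : Function.Injective f) {a c : ℕ} (h : RQ H a c) : RQ G a c :=
  (h.subgroup f.range).congr (MonoidHom.ofInjective hf).symm

theorem RQ.of_subgroup [Finite G] (H : Subgroup G) {a c : ℕ} (h : RQ H a c) :
    RQ G (H.index ^ 2 * a) c := by
  have h1 := (Cfsg.Agent.S4200.result H).1
  calc c * Nat.card G = c * Nat.card H * H.index := by rw [mul_assoc, H.card_mul_index]
    _ ≤ a * (H.index * Nat.card (ConjClasses G)) * H.index :=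
      Nat.mul_le_mul_right _ (h.trans (Nat.mul_le_mul_left _ h1))
    _ = H.index ^ 2 * a * Nat.card (ConjClasses G) := by ring

theorem RQ.of_central [Finite G] (Z : Subgroup G) (hZ : Z ≤ Subgroup.center G) :
    RQ G Z.index 1 := by
  have h := RB.of_central Z hZ
  unfold RQ
  rw [one_mul]
  exact h

theorem RQ.pi {ι : Type v} [Fintype ι] {H : ι → Type u} [∀ i, Group (H i)] [∀ i, Finite (H i)]
    {a c : ι → ℕ} (h : ∀ i, RQ (H i) (a i) (c i)) : RQ (∀ i, H i) (∏ i, a i) (∏ i, c i) := by
  unfold RQ
  rw [card_conjClasses_pi, Nat.card_pi, ← Finset.prod_mul_distrib, ← Finset.prod_mul_distrib]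
  exact Finset.prod_le_prod' fun i _ => h i

theorem RQ.prod {H : Type v} [Group H] [Finite G] [Finite H] {a c a' c' : ℕ} (hG : RQ G a c)
    (hH : RQ H a' c') : RQ (G × H) (a * a') (c * c') := by
  have h : Nat.card (ConjClasses (G × H)) =
      Nat.card (ConjClasses G) * Nat.card (ConjClasses H) := by
    have h := card_comm_eq_card_conjClasses_mul_card (G × H)
    have e : Nat.card {p : (G × H) × (G × H) // Commute p.1 p.2} =
        Nat.card {p : G × G // Commute p.1 p.2} * Nat.card {p : H × H // Commute p.1 p.2} := by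
      rw [← Nat.card_prod]
      exact Nat.card_congr
        { toFun := fun p => (⟨(p.1.1.1, p.1.2.1), congrArg Prod.fst p.2.eq⟩,
            ⟨(p.1.1.2, p.1.2.2), congrArg Prod.snd p.2.eq⟩)
          invFun := fun q => ⟨((q.1.1.1, q.2.1.1), (q.1.1.2, q.2.1.2)), Prod.ext q.1.2 q.2.2⟩
          left_inv := fun p => rfl
          right_inv := fun q => rfl }
    rw [e, card_comm_eq_card_conjClasses_mul_card, card_comm_eq_card_conjClasses_mul_card,
      mul_mul_mul_comm, ← Nat.card_prod (α := G)] at h
    exact (Nat.eq_of_mul_eq_mul_right Nat.card_pos h).symm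
  unfold RQ
  rw [h, Nat.card_prod, mul_mul_mul_comm, mul_mul_mul_comm a]
  exact Nat.mul_le_mul hG hH

theorem RQ.of_family [Finite G] {ι : Type v} [Fintype ι] {H : ι → Type u} [∀ i, Group (H i)]
    [∀ i, Finite (H i)] (f : ∀ i, G →* H i) (hf : ∀ g, (∀ i, f i g = 1) → g = 1) {a c : ι → ℕ}
    (h : ∀ i, RQ (H i) (a i) (c i)) : RQ G (∏ i, a i) (∏ i, c i) :=
  (RQ.pi h).of_injective (MonoidHom.pi f)
    ((injective_iff_map_eq_one _).mpr fun g hg => hf g fun i => congrFun hg i)

end CfsgLib.ClassLowerSharp
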