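import Mathlib
import Cfsg.Agent.Lib.ClassLowerSharp.Fibre
import Cfsg.Agent.Lib.ClassLowerSharp.Quot

/-!
The quotient of a primitive solvable linear group by its Fitting subgroup.
-/

set_option autoImplicit false
set_option linter.style.haveILetI false
set_option linter.unusedSectionVars false

namespace CfsgLib.ClassLowerSharp

open Module Cfsg CfsgLib.ClassLower
open scoped commutatorElement

universe u v w

namespace IsPrim

variable {k : Type w} [Field k] {H : Type u} [Group H] [Finite H] {V : Type v} [AddCommGroup V]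
  [Module k V] {ρ : H →* Module.End k V} (hρ : IsPrim ρ)
include hρ

theorem fitting_normal : (fittingSubgroup H).Normal := Cores.fittingSubgroup_normal H

/-- The index of the scalars in two steps. -/
theorem index_scalars_eq : (scalars ρ).index =
    (scalars ρ).relIndex (fittingSubgroup H) * (fittingSubgroup H).index :=
  (Subgroup.relIndex_mul_index hρ.scalars_le_fitting).symm

theorem rq_index : RQ H (scalars ρ).index 1 := RQ.of_central _ hρ.scalars_le_center

/-- From a count of classes to a bound. -/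
theorem rq_of_count {L W : ℕ} (hW : Nat.card (scalars ρ) * W ≤ L * Nat.card (ConjClasses H)) :
    RQ H ((scalars ρ).index * L) W := by
  unfold RQ
  calc W * Nat.card H = Nat.card (scalars ρ) * W * (scalars ρ).index := by
        rw [← (scalars ρ).card_mul_index]; ring
    _ ≤ L * Nat.card (ConjClasses H) * (scalars ρ).index := Nat.mul_le_mul_right _ hW
    _ = _ := by ring

/-- An element of prime order of the Fitting subgroup modulo scalars. -/
theorem exists_fitting_prime {q : ℕ} (hq : q.Prime)
    (hdvd : q ∣ (scalars ρ).relIndex (fittingSubgroup H)) :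
    ∃ e ∈ fittingSubgroup H, e ∉ scalars ρ ∧ e ^ q ∈ scalars ρ := by
  have := hρ.scalars_normal
  have := Fact.mk hq
  obtain ⟨u, hu⟩ := exists_prime_orderOf_dvd_card'
    (G := fittingSubgroup H ⧸ (scalars ρ).subgroupOf (fittingSubgroup H)) q hdvd
  obtain ⟨e, rfl⟩ := QuotientGroup.mk_surjective u
  refine ⟨e, e.2, fun he => hq.ne_one ?_, ?_⟩
  · rw [← hu, (QuotientGroup.eq_one_iff e).mpr (Subgroup.mem_subgroupOf.mpr he), orderOf_one]
  · have h := pow_orderOf_eq_one
      (QuotientGroup.mk e : fittingSubgroup H ⧸ (scalars ρ).subgroupOf (fittingSubgroup H))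
    rw [hu, ← QuotientGroup.mk_pow, QuotientGroup.eq_one_iff, Subgroup.mem_subgroupOf] at h
    simpa using h

/-- A lift of prime order modulo scalars. -/
theorem exists_lift_prime {q : ℕ} (hq : q.Prime)
    (hcop : Nat.Coprime q ((scalars ρ).relIndex (fittingSubgroup H)))
    (hdvd : q ∣ (fittingSubgroup H).index) :
    ∃ g, g ∉ fittingSubgroup H ∧ g ^ q ∈ scalars ρ := by
  have := hρ.fitting_normal
  have := hρ.scalars_normal
  have := Fact.mk hq
  set N := (scalars ρ).relIndex (fittingSubgroup H) with hN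
  obtain ⟨u, hu⟩ := exists_prime_orderOf_dvd_card' (G := H ⧸ fittingSubgroup H) q hdvd
  obtain ⟨g, rfl⟩ := QuotientGroup.mk_surjective u
  have hgq : g ^ q ∈ fittingSubgroup H := by
    rw [← QuotientGroup.eq_one_iff, QuotientGroup.mk_pow, ← hu, pow_orderOf_eq_one]
  refine ⟨g ^ N, fun h => hq.ne_one ?_, ?_⟩
  · rw [← QuotientGroup.eq_one_iff, QuotientGroup.mk_pow, ← orderOf_dvd_iff_pow_eq_one, hu] at h
    exact Nat.eq_one_of_dvd_coprimes hcop dvd_rfl h
  · rw [← pow_mul, mul_comm, pow_mul]
    have h : (QuotientGroup.mk ⟨_, hgq⟩ :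
        fittingSubgroup H ⧸ (scalars ρ).subgroupOf (fittingSubgroup H)) ^ N = 1 :=
      pow_card_eq_one'
    rw [← QuotientGroup.mk_pow, QuotientGroup.eq_one_iff, Subgroup.mem_subgroupOf] at h
    simpa using h

/-- A normal subgroup which is a group of prime power order modulo scalars lies in the Fitting
subgroup. -/
theorem le_fitting_of_pGroup {q : ℕ} (hq : q.Prime) (U : Subgroup H) [U.Normal]
    (hU : ∀ g ∈ U, ∃ j : ℕ, g ^ q ^ j ∈ scalars ρ) : U ≤ fittingSubgroup H := by
  have := Fact.mk hq
  refine Cores.le_fittingSubgroup ?_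
  have := hρ.scalars_normal
  let π : U →* H ⧸ scalars ρ := (QuotientGroup.mk' (scalars ρ)).comp U.subtype
  have hp : IsPGroup q π.range := by
    rintro ⟨_, g, rfl⟩
    obtain ⟨j, hj⟩ := hU g g.2
    refine ⟨j, Subtype.ext ?_⟩
    show (QuotientGroup.mk (g : H) : H ⧸ scalars ρ) ^ q ^ j = 1
    rw [← QuotientGroup.mk_pow, QuotientGroup.eq_one_iff]
    exact hj
  have hker : π.rangeRestrict.ker ≤ Subgroup.center U := fun g hg => by
    rw [MonoidHom.ker_rangeRestrict, MonoidHom.mem_ker] at hg
    have hz : (g : H) ∈ scalars ρ := (QuotientGroup.eq_one_iff _).mp hg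
    exact Subgroup.mem_center_iff.mpr fun x =>
      Subtype.ext (Subgroup.mem_center_iff.mp (hρ.scalars_le_center hz) x)
  have : Group.IsNilpotent π.range := hp.isNilpotent
  exact Subgroup.isNilpotent_of_ker_le_center _ hker

/-- Classes from the scalars, two chosen elements and further classes modulo the Fitting
subgroup. -/
theorem weights_le [FiniteDimensional k V] {e h : H} {q o : ℕ} (he : e ∈ fittingSubgroup H)
    (heZ : e ∉ scalars ρ) (heq : e ^ q ∈ scalars ρ) (hh : h ∉ fittingSubgroup H)
    (hho : h ^ o ∈ scalars ρ) {be bh bo L j : ℕ}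
    (hbe : Nat.gcd (Nat.gcd (finrank k V) (Nat.card (scalars ρ))) q ∣ be) (hbeL : be ∣ L)
    (hbh : Nat.gcd (Nat.gcd (finrank k V) (Nat.card (scalars ρ))) o ∣ bh) (hbhL : bh ∣ L)
    (hbo : Nat.gcd (finrank k V) (Nat.card (scalars ρ)) ∣ bo) (hboL : bo ∣ L) (hL : 0 < L)
    (hj : j + 2 ≤ Nat.card (ConjClasses (H ⧸ fittingSubgroup H)) ∨ j = 0) :
    Nat.card (scalars ρ) * (L + L / be + L / bh + j * (L / bo)) ≤
      L * Nat.card (ConjClasses H) := by
  classical
  have := hρ.fitting_normal
  have := hρ.scalars_normal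
  set F := fittingSubgroup H with hF
  have : Fintype (H ⧸ F) := Fintype.ofFinite _
  let A : Finset (ConjClasses (H ⧸ F)) :=
    (Finset.univ.erase (ConjClasses.mk (h : H ⧸ F))).erase (ConjClasses.mk 1)
  have hA : j ≤ A.card := by
    rcases hj with hj | rfl
    · have h1 : (ConjClasses.mk (h : H ⧸ F)) ∈ (Finset.univ : Finset (ConjClasses (H ⧸ F))) :=
        Finset.mem_univ _
      have h2 := Finset.pred_card_le_card_erase (a := ConjClasses.mk (1 : H ⧸ F))
        (s := Finset.univ.erase (ConjClasses.mk (h : H ⧸ F)))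
      rw [Finset.card_erase_of_mem h1, Finset.card_univ, ← Nat.card_eq_fintype_card] at h2
      replace hj : j + 2 ≤ Nat.card (ConjClasses (H ⧸ F)) := hj
      exact le_trans (by omega) h2
    · exact Nat.zero_le _
  obtain ⟨B, hBA, hBj⟩ := Finset.exists_subset_card_eq hA
  choose r hr using fun c : B =>
    ((ConjClasses.map_surjective (f := QuotientGroup.mk' F) (QuotientGroup.mk'_surjective F)).comp
      ConjClasses.mk_surjective) c.1
  let f : Option (Option (Option B)) → H
    | none => 1
    | some none => e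
    | some (some none) => h
    | some (some (some c)) => r c
  let b : Option (Option (Option B)) → ℕ
    | none => 1
    | some none => be
    | some (some none) => bh
    | some (some (some _)) => bo
  have hroot1 : ∀ {x g z : H} {c : k} {o' m : ℕ}, ρ z = c • 1 → g * x * g⁻¹ = x * z →
      x ^ o' ∈ scalars ρ → Nat.gcd (Nat.gcd (finrank k V) (Nat.card (scalars ρ))) o' ∣ m →
      c ^ m = 1 := by
    intro x g z c o' m hz hg ho' hdm
    obtain ⟨t, rfl⟩ := hdm
    rw [pow_mul, hρ.pow_eq_one_of_conj hz hg ho', one_pow]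
  have hroot : ∀ i (g z : H) (c : k), ρ z = c • 1 → g * f i * g⁻¹ = f i * z → c ^ b i = 1 := by
    rintro (_ | _ | _ | c') g z c hz hg <;> simp only [f, b] at hg ⊢
    · exact hroot1 hz hg (o' := 1) (by rw [pow_one]; exact one_mem _) (by simp)
    · exact hroot1 hz hg heq hbe
    · exact hroot1 hz hg hho hbh
    · refine hroot1 hz hg (o' := Nat.card H) ?_ (dvd_trans (Nat.gcd_dvd_left _ _) hbo)
      rw [pow_card_eq_one']; exact one_mem _
  have hπ : ∀ i i', ∀ g : H, (f i')⁻¹ * (g * f i * g⁻¹) ∈ scalars ρ →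
      ConjClasses.mk (f i : H ⧸ F) = ConjClasses.mk (f i' : H ⧸ F) := by
    intro i i' g hg
    refine ConjClasses.mk_eq_mk_iff_isConj.mpr (isConj_iff.mpr ⟨(g : H ⧸ F), ?_⟩)
    rw [← QuotientGroup.mk_mul, ← QuotientGroup.mk_inv, ← QuotientGroup.mk_mul, eq_comm,
      QuotientGroup.eq]
    exact hρ.scalars_le_fitting hg
  have he1 : (e : H ⧸ F) = 1 := (QuotientGroup.eq_one_iff e).mpr he
  have hh1 : ConjClasses.mk (h : H ⧸ F) ≠ ConjClasses.mk 1 := fun h0 => hh
    ((QuotientGroup.eq_one_iff h).mp (isConj_one_left.mp (ConjClasses.mk_eq_mk_iff_isConj.mp h0)))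
  have hr' : ∀ c : B, ConjClasses.mk (r c : H ⧸ F) = c.1 := hr
  have hrh : ∀ c : B, c.1 ≠ ConjClasses.mk 1 ∧ c.1 ≠ ConjClasses.mk (h : H ⧸ F) := fun c => by
    have := hBA c.2
    simp only [A, Finset.mem_erase, Finset.mem_univ, and_true] at this
    exact this
  have hne : ∀ i i', i ≠ i' → ∀ g : H, (f i')⁻¹ * (g * f i * g⁻¹) ∉ scalars ρ := by
    intro i i' hii g hg
    have hcl := hπ i i' g hg
    rcases i with _ | _ | _ | c <;> rcases i' with _ | _ | _ | c' <;>
      simp only [f, he1, hr', QuotientGroup.mk_one] at hcl hg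
    all_goals first
      | exact hii rfl
      | exact hh1 hcl
      | exact hh1 hcl.symm
      | exact (hrh c).1 hcl
      | exact (hrh c).2 hcl
      | exact (hrh c').1 hcl.symm
      | exact (hrh c').2 hcl.symm
      | (exact hii (by rw [show c = c' from Subtype.ext hcl]))
      | skip
    · refine heZ ?_
      simp only [mul_one, mul_inv_cancel] at hg
      exact inv_mem_iff.mp hg
    · refine heZ ?_
      rw [inv_one, one_mul] at hg
      have h2 := hρ.scalars_normal.conj_mem _ hg g⁻¹
      simpa [mul_assoc] using h2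
  have hdvd : ∀ i, b i ∣ L := by
    rintro (_ | _ | _ | c) <;> simp only [b]
    exacts [one_dvd L, hbeL, hbhL, hboL]
  have h0 := hρ.card_mul_sum_le f b L (fun i => Nat.pos_of_dvd_of_pos (hdvd i) hL) hdvd hroot hne
  rw [Fintype.sum_option, Fintype.sum_option, Fintype.sum_option] at h0
  simp only [b, Nat.div_one, Finset.sum_const, Finset.card_univ, Fintype.card_coe, hBj,
    smul_eq_mul] at h0
  simpa [add_assoc] using h0

end IsPrim

end CfsgLib.ClassLowerSharp
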