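import Mathlib
import Cfsg.Agent.Lib.ClassLowerSharp.Lifts
import Cfsg.Agent.Lib.ClassLowerSharp.Act

/-!
The action on the Fitting subgroup modulo scalars.
-/

set_option autoImplicit false
set_option linter.style.haveILetI false
set_option linter.unusedSectionVars false

namespace CfsgLib.ClassLowerSharp

open Module Cfsg CfsgLib.ClassLower
open scoped commutatorElement

universe u v w

section

variable {k : Type w} [Field k] {H : Type u} [Group H] {V : Type v} [AddCommGroup V] [Module k V]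

instance instNormalScalars (ρ : H →* Module.End k V) : (scalars ρ).Normal :=
  ⟨fun z ⟨c, hc⟩ g => ⟨c, by
    rw [map_mul, map_mul, hc, mul_smul_comm, mul_one, smul_mul_assoc, ← map_mul, mul_inv_cancel,
      map_one]⟩⟩

/-- The Fitting subgroup modulo scalars. -/
abbrev FitQ (ρ : H →* Module.End k V) : Type u :=
  fittingSubgroup H ⧸ (scalars ρ).subgroupOf (fittingSubgroup H)

end

namespace IsPrim

variable {k : Type w} [Field k] {H : Type u} [Group H] [Finite H] {V : Type v} [AddCommGroup V]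
  [Module k V] {ρ : H →* Module.End k V} (hρ : IsPrim ρ)
include hρ

theorem fitQ_comm : ∀ a b : FitQ ρ, a * b = b * a := fun a b => by
  obtain ⟨a, rfl⟩ := QuotientGroup.mk_surjective a
  obtain ⟨b, rfl⟩ := QuotientGroup.mk_surjective b
  rw [← QuotientGroup.mk_mul, ← QuotientGroup.mk_mul, QuotientGroup.eq, Subgroup.mem_subgroupOf]
  have e : (((a * b)⁻¹ * (b * a) : fittingSubgroup H) : H) = ⁅((b : H))⁻¹, ((a : H))⁻¹⁆ := by
    push_cast; group
  rw [e]
  exact hρ.commutator_mem (inv_mem b.2) (inv_mem a.2)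

/-- The action on the Fitting subgroup modulo scalars has the Fitting subgroup as its kernel. -/
theorem exists_act : ∃ φ : H →* MulAut (FitQ ρ),
    φ.ker = fittingSubgroup H ∧
    (∀ a : fittingSubgroup H, ∀ m : ℕ, (QuotientGroup.mk a : FitQ ρ) ^ m = 1 ↔
      (a : H) ^ m ∈ scalars ρ) ∧
    ∀ (g : H) (a b : fittingSubgroup H), g * a * g⁻¹ = (b : H) →
      φ g (QuotientGroup.mk a) = QuotientGroup.mk b := by
  have := hρ.fitting_normal
  set F := fittingSubgroup H with hF
  have hcong : ∀ g : H, ((scalars ρ).subgroupOf F).map (MulAut.conjNormal g : MulAut F).toMonoidHom =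
      (scalars ρ).subgroupOf F := fun g => by
    ext x
    simp only [Subgroup.mem_map, Subgroup.mem_subgroupOf]
    constructor
    · rintro ⟨y, hy, rfl⟩
      exact hρ.scalars_normal.conj_mem _ hy g
    · intro hx
      refine ⟨(MulAut.conjNormal g⁻¹ : MulAut F) x, ?_, Subtype.ext ?_⟩
      · exact hρ.scalars_normal.conj_mem _ hx g⁻¹
      · show g * (g⁻¹ * (x : H) * g⁻¹⁻¹) * g⁻¹ = x
        group
  let φ : H →* MulAut (FitQ ρ) :=
    { toFun := fun g => QuotientGroup.congr _ _ (MulAut.conjNormal g : MulAut F) (hcong g)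
      map_one' := MulEquiv.ext fun q => by
        obtain ⟨a, rfl⟩ := QuotientGroup.mk_surjective q
        show QuotientGroup.mk ((MulAut.conjNormal (1 : H) : MulAut F) a) = _
        rw [map_one]; rfl
      map_mul' := fun g h => MulEquiv.ext fun q => by
        obtain ⟨a, rfl⟩ := QuotientGroup.mk_surjective q
        show QuotientGroup.mk ((MulAut.conjNormal (g * h) : MulAut F) a) = _
        rw [map_mul]; rfl }
  have happ : ∀ (g : H) (a b : F), g * a * g⁻¹ = (b : H) →
      φ g (QuotientGroup.mk a) = QuotientGroup.mk b := fun g a b e => by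
    show (QuotientGroup.mk ((MulAut.conjNormal g : MulAut F) a) : FitQ ρ) = _
    congr 1
    exact Subtype.ext e
  refine ⟨φ, ?_, fun a m => ?_, happ⟩
  · ext g
    rw [MonoidHom.mem_ker]
    constructor
    · intro hg
      refine hρ.mem_fitting_of_commutators fun e he => ?_
      have h := congrArg (fun σ : MulAut (FitQ ρ) => σ (QuotientGroup.mk ⟨e, he⟩)) hg
      have h' := (happ g ⟨e, he⟩ ⟨_, hρ.fitting_normal.conj_mem e he g⟩ rfl).symm.trans h
      simp only [MulAut.one_apply] at h'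
      have h2 := QuotientGroup.eq.mp h'.symm
      rw [Subgroup.mem_subgroupOf] at h2
      push_cast at h2
      have h3 := hρ.scalars_normal.conj_mem _ h2 e
      convert h3 using 1
      group
    · intro hg
      refine MulEquiv.ext fun q => ?_
      obtain ⟨a, rfl⟩ := QuotientGroup.mk_surjective q
      rw [happ g a ⟨_, hρ.fitting_normal.conj_mem a a.2 g⟩ rfl, MulAut.one_apply, QuotientGroup.eq,
        Subgroup.mem_subgroupOf]
      push_cast
      have h := hρ.commutator_mem (show g ∈ F from hg) (inv_mem a.2)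
      convert h using 1
      group
  · show (QuotientGroup.mk (a ^ m) : FitQ ρ) = 1 ↔ _
    rw [QuotientGroup.eq_one_iff, Subgroup.mem_subgroupOf]
    simp

/-- No element generates the Fitting subgroup modulo scalars. -/
theorem orderOf_ne_card (hN : 2 ≤ (scalars ρ).relIndex (fittingSubgroup H)) (x : H)
    (_hx : x ∈ fittingSubgroup H)
    (h : ∀ a ∈ fittingSubgroup H, ∃ n : ℤ, (x ^ n)⁻¹ * a ∈ scalars ρ) : False := by
  set F := fittingSubgroup H with hF
  have hc : ∀ a ∈ F, ∀ b ∈ F, a * b = b * a := by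
    intro a ha b hb
    obtain ⟨n, hn⟩ := h a ha
    obtain ⟨m, hm⟩ := h b hb
    obtain ⟨z, hz, rfl⟩ : ∃ z ∈ scalars ρ, a = x ^ n * z := ⟨_, hn, by group⟩
    obtain ⟨t, ht, rfl⟩ : ∃ t ∈ scalars ρ, b = x ^ m * t := ⟨_, hm, by group⟩
    have c1 : ∀ y, Commute y z := fun y => Subgroup.mem_center_iff.mp (hρ.scalars_le_center hz) y
    have c2 : ∀ y, Commute y t := fun y => Subgroup.mem_center_iff.mp (hρ.scalars_le_center ht) y
    exact (((Commute.refl x).zpow_zpow n m).mul_right (c2 _)).mul_left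
      ((c1 _).symm.mul_right (c1 _).symm) |>.eq
  have hF' : F ≤ scalars ρ := hρ.le_scalars_of_abelian hρ.fitting_normal hc
  have := Subgroup.relIndex_eq_one.mpr hF'
  omega

/-- If the order of the Fitting subgroup modulo scalars is `q * q`, it has exponent `q`. -/
theorem pow_prime_mem {q : ℕ} (hq : q.Prime)
    (hN : (scalars ρ).relIndex (fittingSubgroup H) = q * q) {x : H}
    (hx : x ∈ fittingSubgroup H) : x ^ q ∈ scalars ρ := by
  obtain ⟨φ, -, hpow, -⟩ := hρ.exists_act
  by_contra hxq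
  have hcard : Nat.card (FitQ ρ) = q ^ 2 := by rw [pow_two]; exact hN
  have hd : orderOf (QuotientGroup.mk ⟨x, hx⟩ : FitQ ρ) ∣ q ^ 2 := hcard ▸ orderOf_dvd_natCard _
  obtain ⟨i, hi, hai⟩ := (Nat.dvd_prime_pow hq).mp hd
  have hne : ¬ orderOf (QuotientGroup.mk ⟨x, hx⟩ : FitQ ρ) ∣ q := fun h =>
    hxq ((hpow ⟨x, hx⟩ q).mp (orderOf_dvd_iff_pow_eq_one.mp h))
  obtain rfl : i = 2 := by
    by_contra h2
    interval_cases i
    · exact hne (by rw [hai, pow_zero]; exact one_dvd q)
    · exact hne (by rw [hai, pow_one])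
    · exact h2 rfl
  refine hρ.orderOf_ne_card (by rw [hN]; nlinarith [hq.two_le]) x hx fun a ha => ?_
  have htop : (Subgroup.zpowers (QuotientGroup.mk ⟨x, hx⟩ : FitQ ρ)) = ⊤ :=
    Subgroup.eq_top_of_card_eq _ (by rw [Nat.card_zpowers, hai, hcard])
  obtain ⟨n, hn⟩ := Subgroup.mem_zpowers_iff.mp
    (htop.ge (Subgroup.mem_top (QuotientGroup.mk ⟨a, ha⟩ : FitQ ρ)))
  refine ⟨n, ?_⟩
  rw [← QuotientGroup.mk_zpow, QuotientGroup.eq, Subgroup.mem_subgroupOf] at hn
  simpa using hn

/-- If the Fitting subgroup modulo scalars is a `2`-group, the quotient by the Fitting subgroup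
has no normal `2`-subgroup. -/
theorem quot_no_two {i : ℕ} (hN : (scalars ρ).relIndex (fittingSubgroup H) = 2 ^ i)
    [(fittingSubgroup H).Normal] :
    ∀ U : Subgroup (H ⧸ fittingSubgroup H), U.Normal → IsPGroup 2 U → U = ⊥ := by
  intro U hU hUp
  obtain ⟨φ, -, hpow, -⟩ := hρ.exists_act
  have hle : U.comap (QuotientGroup.mk' (fittingSubgroup H)) ≤ fittingSubgroup H := by
    refine hρ.le_fitting_of_pGroup Nat.prime_two _ fun g hg => ?_
    obtain ⟨j, hj⟩ := hUp ⟨_, hg⟩
    have hF : g ^ 2 ^ j ∈ fittingSubgroup H := by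
      rw [← QuotientGroup.eq_one_iff, QuotientGroup.mk_pow]
      exact congrArg Subtype.val hj
    refine ⟨j + i, ?_⟩
    rw [pow_add, pow_mul]
    refine (hpow ⟨_, hF⟩ (2 ^ i)).mp ?_
    rw [← hN]
    exact pow_card_eq_one' (G := FitQ ρ)
  rw [eq_bot_iff]
  intro u hu
  obtain ⟨g, rfl⟩ := QuotientGroup.mk_surjective u
  exact Subgroup.mem_bot.mpr ((QuotientGroup.eq_one_iff g).mpr (hle hu))

/-- The quotient by the Fitting subgroup acts faithfully on the involutions. -/
theorem exists_end_two {i N : ℕ} (hN : (scalars ρ).relIndex (fittingSubgroup H) = 2 ^ i)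
    (hiN : 2 ^ i ≤ 2 ^ N) [(fittingSubgroup H).Normal] :
    ∃ f : H ⧸ fittingSubgroup H →* Module.End (ZMod 2) (Fin N → ZMod 2),
      Function.Injective f := by
  obtain ⟨φ, hker, -, -⟩ := hρ.exists_act
  letI : CommGroup (FitQ ρ) := { (inferInstance : Group (FitQ ρ)) with mul_comm := hρ.fitQ_comm }
  let W : Subgroup (FitQ ρ) := (powMonoidHom 2).ker
  let res : MulAut (FitQ ρ) →* MulAut W :=
    { toFun := fun σ =>
        { toFun := fun w => ⟨σ w, by
            show σ (w : FitQ ρ) ^ 2 = 1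
            rw [← map_pow, show (w : FitQ ρ) ^ 2 = 1 from w.2, map_one]⟩
          invFun := fun w => ⟨σ.symm w, by
            show σ.symm (w : FitQ ρ) ^ 2 = 1
            rw [← map_pow, show (w : FitQ ρ) ^ 2 = 1 from w.2, map_one]⟩
          left_inv := fun w => Subtype.ext (σ.symm_apply_apply w)
          right_inv := fun w => Subtype.ext (σ.apply_symm_apply w)
          map_mul' := fun a b => Subtype.ext (map_mul σ (a : FitQ ρ) b) }
      map_one' := MulEquiv.ext fun w => rfl
      map_mul' := fun a b => MulEquiv.ext fun w => rfl }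
  have hcard : Nat.card (FitQ ρ) = 2 ^ i := hN
  obtain ⟨g, hg⟩ := exists_hom_end (q := 2) (W := W) (fun w => Subtype.ext w.2) (N := N)
    ((Subgroup.card_le_card_group W).trans (hcard.le.trans hiN))
  let ψ : H ⧸ fittingSubgroup H →* MulAut (FitQ ρ) :=
    QuotientGroup.lift _ φ (fun x hx => by rwa [hker])
  have hψ : Function.Injective ψ := by
    rw [injective_iff_map_eq_one]
    intro q hq
    obtain ⟨x, rfl⟩ := QuotientGroup.mk_surjective q
    exact (QuotientGroup.eq_one_iff x).mpr (hker ▸ MonoidHom.mem_ker.mpr hq)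
  refine ⟨g.comp (res.comp ψ), hg.comp ?_⟩
  rw [← MonoidHom.ker_eq_bot_iff]
  refine hρ.quot_no_two hN _ inferInstance ?_
  rintro ⟨x, hx⟩
  obtain ⟨j, n, hn, hjn⟩ := Nat.exists_eq_two_pow_mul_odd (n := orderOf x) (orderOf_pos x).ne'
  refine ⟨j, Subtype.ext ?_⟩
  show x ^ 2 ^ j = 1
  have hxn : (x ^ 2 ^ j) ^ n = 1 := by rw [← pow_mul, ← hjn, pow_orderOf_eq_one]
  have hfix : ∀ w : FitQ ρ, w ^ 2 = 1 → ψ (x ^ 2 ^ j) w = w := fun w hw => by
    have h1 : res (ψ x) = 1 := hx
    have h2 : res (ψ (x ^ 2 ^ j)) = 1 := by rw [map_pow, map_pow, h1, one_pow]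
    exact congrArg Subtype.val (congrArg (fun σ : MulAut W => σ ⟨w, hw⟩) h2)
  refine hψ ?_
  rw [map_one]
  generalize hσ : ψ (x ^ 2 ^ j) = σ at hfix
  have hσn : σ ^ n = 1 := by rw [← hσ, ← map_pow, hxn, map_one]
  have key : ∀ l : ℕ, ∀ a : FitQ ρ, a ^ 2 ^ l = 1 → σ a = a := by
    intro l
    induction l with
    | zero => intro a ha; rw [pow_zero, pow_one] at ha; rw [ha, map_one]
    | succ l ih =>
      intro a ha
      have h2 : σ (a ^ 2) = a ^ 2 := ih _ (by rw [← pow_mul, ← pow_succ']; exact ha)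
      obtain ⟨w, hw⟩ : ∃ w, w = a⁻¹ * σ a := ⟨_, rfl⟩
      have hw2 : w ^ 2 = 1 := by rw [hw, mul_pow, ← map_pow, h2, inv_pow, inv_mul_cancel]
      have hpow : ∀ t : ℕ, (σ ^ t) a = a * w ^ t := by
        intro t
        induction t with
        | zero => simp
        | succ t iht =>
          rw [pow_succ', MulAut.mul_apply, iht, map_mul, map_pow, hfix w hw2, hw, ← hw,
            pow_succ', ← mul_assoc, hw, mul_inv_cancel_left]
      have h := hpow n
      rw [hσn, MulAut.one_apply, left_eq_mul] at h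
      obtain ⟨t, rfl⟩ := hn
      rw [pow_succ, pow_mul, hw2, one_pow, one_mul, hw, inv_mul_eq_one] at h
      exact h.symm
  exact MulEquiv.ext fun a => key i a (by rw [← hcard]; exact pow_card_eq_one')

end IsPrim

end CfsgLib.ClassLowerSharp
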