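import Mathlib
import Cfsg.Agent.Lib.ClassLowerSharp.Tools
import Cfsg.Agent.Lib.ClassLowerSharp.Bound

/-!
Primitive solvable linear groups of degree two.
-/

set_option autoImplicit false
set_option linter.style.haveILetI false
set_option linter.unusedSectionVars false

namespace CfsgLib.ClassLowerSharp

open Module Cfsg CfsgLib.ClassLower
open scoped commutatorElement

universe u v w

theorem gcd_dvd_gcd_left (d z o : ℕ) : Nat.gcd (Nat.gcd d z) o ∣ Nat.gcd d o :=
  Nat.dvd_gcd ((Nat.gcd_dvd_left _ _).trans (Nat.gcd_dvd_left _ _)) (Nat.gcd_dvd_right _ _)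

namespace IsPrim

variable {k : Type w} [Field k] {H : Type u} [Group H] [Finite H] {V : Type v} [AddCommGroup V]
  [Module k V] {ρ : H →* Module.End k V} (hρ : IsPrim ρ)
include hρ

theorem relIndex_facts [FiniteDimensional k V] :
    ∃ s, (scalars ρ).relIndex (fittingSubgroup H) = s * s ∧ 1 ≤ s ∧ s ≤ finrank k V ∧
      ∀ q ∈ s.primeFactors, q ∣ finrank k V := by
  obtain ⟨s, hs⟩ := hρ.exists_sq
  have hpos : 0 < (scalars ρ).relIndex (fittingSubgroup H) := relIndex_pos
  refine ⟨s, hs, ?_, ?_, fun q hq => hρ.prime_dvd_finrank (Nat.prime_of_mem_primeFactors hq) ?_⟩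
  · rcases Nat.eq_zero_or_pos s with rfl | h
    · simp [hs] at hpos
    · exact h
  · exact Nat.mul_self_le_mul_self_iff.mp (hs ▸ hρ.relIndex_le_sq)
  · rw [hs]; exact dvd_mul_of_dvd_left (Nat.dvd_of_mem_primeFactors hq) s

/-- Invariance of membership in normal subgroups containing the scalars. -/
theorem mem_iff_of_conj {x y g : H} (h : y⁻¹ * (g * x * g⁻¹) ∈ scalars ρ) (S : Subgroup H)
    (hS : S.Normal) (hZS : scalars ρ ≤ S) (n : ℕ) : x ^ n ∈ S ↔ y ^ n ∈ S := by
  have hc : Commute y (y⁻¹ * (g * x * g⁻¹)) :=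
    Subgroup.mem_center_iff.mp (hρ.scalars_le_center h) y
  have e : g * x ^ n * g⁻¹ = y ^ n * (y⁻¹ * (g * x * g⁻¹)) ^ n := by
    rw [← hc.mul_pow, mul_inv_cancel_left, conj_pow]
  constructor
  · intro hx
    have h1 := hS.conj_mem _ hx g
    rw [e] at h1
    exact (Subgroup.mul_mem_cancel_right S (pow_mem (hZS h) n)).mp h1
  · intro hy
    have h1 : g * x ^ n * g⁻¹ ∈ S := e ▸ mul_mem hy (pow_mem (hZS h) n)
    have h2 := hS.conj_mem _ h1 g⁻¹
    simpa [mul_assoc] using h2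

/-- The case where the quotient by the Fitting subgroup has order six. -/
theorem deg_two_six [FiniteDimensional k V] (hd : finrank k V = 2)
    (hN : (scalars ρ).relIndex (fittingSubgroup H) = 4) (hX : (fittingSubgroup H).index = 6) :
    Nat.card (scalars ρ) * 4 ≤ Nat.card (ConjClasses H) := by
  classical
  have := hρ.fitting_normal
  obtain ⟨φ, hker, hpow, happ⟩ := hρ.exists_act
  set F := fittingSubgroup H with hF
  have : Fact (Nat.Prime 2) := ⟨Nat.prime_two⟩
  have hmemker : ∀ x, φ x = 1 ↔ x ∈ F := fun x => by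
    rw [← MonoidHom.mem_ker, hker]
  have hsq : ∀ a : FitQ ρ, a * a = 1 := fun a => by
    obtain ⟨a, rfl⟩ := QuotientGroup.mk_surjective a
    rw [← pow_two]
    exact (hpow a 2).mpr (hρ.pow_prime_mem Nat.prime_two hN a.2)
  have hone : ∀ a : fittingSubgroup H, (QuotientGroup.mk a : FitQ ρ) = 1 ↔ (a : H) ∈ scalars ρ :=
    fun a => by
      have := hpow a 1
      rwa [pow_one, pow_one] at this
  obtain ⟨u, hu⟩ := exists_prime_orderOf_dvd_card' (G := H ⧸ F) 2
    (by rw [show Nat.card (H ⧸ F) = F.index from rfl, hX]; norm_num)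
  obtain ⟨g, rfl⟩ := QuotientGroup.mk_surjective u
  have hgF : g ∉ F := fun h => by
    rw [(QuotientGroup.eq_one_iff g).mpr h, orderOf_one] at hu; norm_num at hu
  have hg2 : g * g ∈ F := by
    rw [← QuotientGroup.eq_one_iff, QuotientGroup.mk_mul, ← pow_two, ← hu, pow_orderOf_eq_one]
  have hφ2 : ∀ a, φ g (φ g a) = a := fun a => by
    rw [← MulAut.mul_apply, ← map_mul, (hmemker _).mpr hg2, MulAut.one_apply]
  obtain ⟨e1, he1⟩ : ∃ a, φ g a ≠ a := by
    by_contra! h
    exact hgF ((hmemker g).mp (MulEquiv.ext h))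
  set e2 := φ g e1 with he2
  set e0 := e1 * e2 with he0
  have hinv : ∀ a : FitQ ρ, a⁻¹ = a := fun a => inv_eq_of_mul_eq_one_right (hsq a)
  have n1 : e1 ≠ 1 := fun h => he1 (by rw [he2, h, map_one])
  have n2 : e2 ≠ 1 := fun h => n1 ((φ g).injective (by rw [← he2, h, map_one]))
  have n12 : e2 ≠ e1 := he1
  have n0 : e0 ≠ 1 := fun h => n12 (by rw [← hinv e1]; exact (eq_inv_of_mul_eq_one_right h))
  have n01 : e0 ≠ e1 := fun h => n2 (mul_eq_left.mp h)
  have n02 : e0 ≠ e2 := fun h => n1 (mul_eq_right.mp h)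
  have hall : ∀ a : FitQ ρ, a = 1 ∨ a = e0 ∨ a = e1 ∨ a = e2 := by
    intro a
    have : Fintype (FitQ ρ) := Fintype.ofFinite _
    have h4 : Fintype.card (FitQ ρ) = 4 := by rw [← Nat.card_eq_fintype_card]; exact hN
    have huniv : ({1, e0, e1, e2} : Finset (FitQ ρ)) = Finset.univ := by
      refine Finset.eq_univ_of_card _ ?_
      rw [h4, Finset.card_insert_of_notMem (by simp [n0.symm, n1.symm, n2.symm]),
        Finset.card_insert_of_notMem (by simp [n01, n02]),
        Finset.card_insert_of_notMem (by simp [n12.symm]), Finset.card_singleton]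
    have := huniv.ge (Finset.mem_univ a)
    simpa using this
  have hge2 : φ g e2 = e1 := hφ2 e1
  have hge0 : φ g e0 = e0 := by rw [he0, map_mul, ← he2, hge2, hρ.fitQ_comm]
  have hfixed : ∀ a, φ g a = a → a = 1 ∨ a = e0 := fun a ha => by
    rcases hall a with h | h | h | h
    · exact Or.inl h
    · exact Or.inr h
    · exact absurd (by rw [h] at ha; exact ha) n12
    · exact absurd (by rw [h, hge2] at ha; exact ha.symm) n12
  obtain ⟨E1, hE1⟩ := QuotientGroup.mk_surjective e1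
  set a2 : FitQ ρ := QuotientGroup.mk ⟨g * g, hg2⟩ with ha2
  have ha2fix : a2 = 1 ∨ a2 = e0 := hfixed _ (happ g ⟨g * g, hg2⟩ ⟨g * g, hg2⟩ (by group))
  have hgE2 : g * (E1 : H) * (g * E1) ∈ F := by
    rw [show g * (E1 : H) * (g * E1) = g * g * (g⁻¹ * E1 * g⁻¹⁻¹) * E1 by group]
    exact mul_mem (mul_mem hg2 (hρ.fitting_normal.conj_mem _ E1.2 g⁻¹)) E1.2
  have hmk2 : (QuotientGroup.mk ⟨g * (E1 : H) * (g * E1), hgE2⟩ : FitQ ρ) = a2 * e0 := by
    have e : (⟨g * (E1 : H) * (g * E1), hgE2⟩ : F) =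
        (⟨g * g, hg2⟩ : F) * ⟨g⁻¹ * E1 * g⁻¹⁻¹, hρ.fitting_normal.conj_mem _ E1.2 g⁻¹⟩ * E1 :=
      Subtype.ext (by show _ = g * g * (g⁻¹ * (E1 : H) * g⁻¹⁻¹) * E1; group)
    rw [e, QuotientGroup.mk_mul, QuotientGroup.mk_mul, ← happ g⁻¹ E1 ⟨g⁻¹ * E1 * g⁻¹⁻¹, hρ.fitting_normal.conj_mem _ E1.2 g⁻¹⟩ rfl, hE1, ← ha2]
    have h1 : φ g⁻¹ e1 = e2 := (φ g).injective (by
      rw [← MulAut.mul_apply, ← map_mul, mul_inv_cancel, map_one, MulAut.one_apply, hge2])
    rw [h1, he0, hρ.fitQ_comm e1 e2, mul_assoc]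
  have hgE1F : g * (E1 : H) ∉ F := fun h => hgF ((Subgroup.mul_mem_cancel_right F E1.2).mp h)
  obtain ⟨y, w, hyF, hy2, hwF, hw2F, hw2, hφw⟩ : ∃ y w : H, y ∉ F ∧ y * y ∈ scalars ρ ∧ w ∉ F ∧
      ∃ hw : w * w ∈ F, (QuotientGroup.mk ⟨w * w, hw⟩ : FitQ ρ) = e0 ∧ φ w = φ g := by
    have hφE : φ (g * (E1 : H)) = φ g := by
      rw [map_mul, (hmemker _).mpr E1.2, mul_one]
    rcases ha2fix with h | h
    · exact ⟨g, g * E1, hgF, (hone ⟨g * g, hg2⟩).mp h, hgE1F, hgE2,
        by rw [hmk2, h, one_mul], hφE⟩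
    · refine ⟨g * E1, g, hgE1F, (hone ⟨_, hgE2⟩).mp ?_, hgF, hg2, h, rfl⟩
      rw [hmk2, h, hsq]
  have hw2n : w * w ∉ scalars ρ := fun h => n0 (by rw [← hw2]; exact (hone _).mpr h)
  have hw4 : (w * w) ^ 2 ∈ scalars ρ := hρ.pow_prime_mem Nat.prime_two hN hw2F
  have hwroot : ∀ (c z : H), z ∈ scalars ρ → c * w * c⁻¹ = w * z → z = 1 := by
    intro c z hz hc
    have hzF : z ∈ F := hρ.scalars_le_fitting hz
    have hcom : ∀ a, φ c (φ g a) = φ g (φ c a) := fun a => by
      have h1 : φ (c * w) = φ (w * z * c) := by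
        rw [← hc, inv_mul_cancel_right]
      rw [map_mul, map_mul, map_mul, (hmemker z).mpr hzF, mul_one, hφw] at h1
      rw [← MulAut.mul_apply, h1, MulAut.mul_apply]
    have hc0 : φ c e0 = e0 := by
      refine (hfixed _ (by rw [← hcom, hge0])).resolve_left fun h => n0 ((φ c).injective ?_)
      rw [h, map_one]
    have hgen : ∀ σ τ : MulAut (FitQ ρ), σ e1 = τ e1 → σ e0 = τ e0 → σ = τ := by
      intro σ τ h1 h0
      have h2 : σ e2 = τ e2 := by
        have hee : e1 * e0 = e2 := by rw [he0, ← mul_assoc, hsq, one_mul]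
        rw [← hee, map_mul σ e1 e0, map_mul τ e1 e0, h1, h0]
      refine MulEquiv.ext fun a => ?_
      rcases hall a with h | h | h | h <;> rw [h]
      exacts [by rw [map_one, map_one], h0, h1, h2]
    obtain ⟨c', hc'F, hc'⟩ : ∃ c' ∈ F, c' * w * c'⁻¹ = w * z := by
      rcases hall (φ c e1) with h | h | h | h
      · exact absurd ((φ c).injective (by rw [h, map_one])) n1
      · exact absurd ((φ c).injective (h.trans hc0.symm)) n01.symm
      · refine ⟨c, (hmemker c).mp (hgen _ _ ?_ ?_), hc⟩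
        · rw [h, MulAut.one_apply]
        · rw [hc0, MulAut.one_apply]
      · refine ⟨c * w⁻¹, (hmemker _).mp ?_, by rw [← hc]; group⟩
        rw [map_mul, map_inv, mul_inv_eq_one, hφw]
        exact hgen _ _ (h.trans he2) (hc0.trans hge0.symm)
    have hfix' : φ g (QuotientGroup.mk ⟨c', hc'F⟩) = QuotientGroup.mk ⟨c', hc'F⟩ := by
      have hzc : w⁻¹ * c' * w⁻¹⁻¹ = z * c' := by
        rw [inv_inv]
        calc w⁻¹ * c' * w = w⁻¹ * (c' * w * c'⁻¹) * c' := by group
          _ = z * c' := by rw [hc']; group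
      have h1 := happ w⁻¹ ⟨c', hc'F⟩ ((⟨z, hzF⟩ : F) * ⟨c', hc'F⟩) hzc
      rw [QuotientGroup.mk_mul, (hone ⟨z, hzF⟩).mpr hz, one_mul] at h1
      have h2 := congrArg (φ w) h1
      rw [← MulAut.mul_apply, ← map_mul, mul_inv_cancel, map_one, MulAut.one_apply, hφw] at h2
      exact h2.symm
    have hcomm : c' * w = w * c' := by
      rcases hfixed _ hfix' with h | h
      · exact (Subgroup.mem_center_iff.mp (hρ.scalars_le_center ((hone _).mp h)) w).symm
      · rw [← hw2, QuotientGroup.eq, Subgroup.mem_subgroupOf] at h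
        have hz' := Subgroup.mem_center_iff.mp (hρ.scalars_le_center h) w
        push_cast at hz'
        calc c' * w = w * w * ((c'⁻¹ * (w * w))⁻¹ * w) := by group
          _ = w * w * (w * (c'⁻¹ * (w * w))⁻¹) := by
              congr 1
              exact ((show Commute w (c'⁻¹ * (w * w)) from hz').inv_right).symm.eq
          _ = w * c' := by group
    rw [hcomm, mul_inv_cancel_right, left_eq_mul] at hc'
    exact hc'
  obtain ⟨t, htF, ht3⟩ := hρ.exists_lift_prime Nat.prime_three (by rw [hN]; norm_num)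
    (by rw [hX]; norm_num)
  obtain ⟨E0, hE0⟩ := QuotientGroup.mk_surjective e0
  have hE0Z : (E0 : H) ∉ scalars ρ := fun h => n0 (hE0 ▸ (hone E0).mpr h)
  have hE02 : (E0 : H) ^ 2 ∈ scalars ρ := hρ.pow_prime_mem Nat.prime_two hN E0.2
  have h23 : ∀ x : H, x ^ 2 ∈ scalars ρ → x ^ 3 ∈ scalars ρ → x ∈ scalars ρ := fun x h2 h3 => by
    have : x = (x ^ 2)⁻¹ * x ^ 3 := by group
    rw [this]; exact mul_mem (inv_mem h2) h3
  have hw3 : w ^ 3 ∉ scalars ρ := fun h => by
    refine hwF (hρ.scalars_le_fitting ?_)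
    have : w = (w ^ 3)⁻¹ * (w * w) ^ 2 := by rw [← pow_two w, ← pow_mul]; group
    rw [this]; exact mul_mem (inv_mem h) hw4
  have ht2 : t ^ 2 ∉ scalars ρ := fun h => htF (hρ.scalars_le_fitting (h23 t h ht3))
  have hy3 : y ^ 3 ∉ scalars ρ := fun h =>
    hyF (hρ.scalars_le_fitting (h23 y (by rwa [pow_two]) h))
  have hE03 : (E0 : H) ^ 3 ∉ scalars ρ := fun h => hE0Z (h23 _ hE02 h)
  replace htF : t ∉ F := htF
  have hE0F : (E0 : H) ∈ F := E0.2
  let f : Fin 5 → H := ![1, (E0 : H), t, w, y]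
  let b : Fin 5 → ℕ := ![1, 2, 1, 1, 2]
  have hroot : ∀ i (g' z : H) (c : k), ρ z = c • 1 → g' * f i * g'⁻¹ = f i * z → c ^ b i = 1 := by
    intro i g' z c hz hg
    have h2 : ∀ x : H, g' * x * g'⁻¹ = x * z → c ^ 2 = 1 := fun x hx =>
      hd ▸ hρ.pow_finrank_eq_one hz hx
    fin_cases i <;> simp only [f, b, Fin.reduceFinMk, Matrix.cons_val] at hg ⊢
    · rw [mul_one, mul_inv_cancel, one_mul] at hg
      rw [← hg, map_one] at hz
      rw [pow_one]
      have := hρ.nt
      exact (smul_left_injective k one_ne_zero (hz.symm.trans (one_smul k _).symm))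
    · exact h2 _ hg
    · have h := hρ.pow_eq_one_of_conj hz hg ht3
      obtain ⟨j, hj⟩ := (gcd_dvd_gcd_left (finrank k V) (Nat.card (scalars ρ)) 3).trans
        (by rw [hd]; norm_num : Nat.gcd (finrank k V) 3 ∣ 1)
      rw [hj, pow_mul, h, one_pow]
    · have h := hwroot g' z ⟨c, hz⟩ hg
      rw [h, map_one] at hz
      rw [pow_one]
      have := hρ.nt
      exact (smul_left_injective k one_ne_zero (hz.symm.trans (one_smul k _).symm))
    · exact h2 _ hg
  have hne : ∀ i j, i ≠ j → ∀ g' : H, (f j)⁻¹ * (g' * f i * g'⁻¹) ∉ scalars ρ := by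
    intro i j hij g' h
    have i1 := hρ.mem_iff_of_conj h F inferInstance hρ.scalars_le_fitting 1
    have i2 := hρ.mem_iff_of_conj h (scalars ρ) inferInstance le_rfl 2
    have i3 := hρ.mem_iff_of_conj h (scalars ρ) inferInstance le_rfl 3
    fin_cases i <;> fin_cases j <;>
      simp only [f, Fin.isValue, Fin.reduceFinMk, Matrix.cons_val, pow_one, one_pow, one_mem,
        hE0F, hE02, hE03, hyF, htF, hwF, ht2, ht3, hw3, hy3, pow_two w, hw2n,
        pow_two y, hy2, iff_false, iff_true, not_true_eq_false]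
        at hij i1 i2 i3 <;>
      exact hij rfl
  have h0 := hρ.card_mul_sum_le f b 2 (fun i => by fin_cases i <;> simp [b])
    (fun i => by fin_cases i <;> simp [b]) hroot hne
  have hs : ∑ i, 2 / b i = 8 := by simp [b, Fin.sum_univ_five]
  rw [hs] at h0
  omega

/-- Degree two. -/
theorem deg_two [FiniteDimensional k V] (hd : finrank k V = 2) :
    RQ H 48 10 ∨ ((scalars ρ).index = 24 ∧
      Nat.card (scalars ρ) * 4 ≤ Nat.card (ConjClasses H)) := by
  classical
  obtain ⟨s, hs, hs1, hs2, -⟩ := hρ.relIndex_facts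
  rw [hd] at hs2
  have hqb := hρ.index_scalars_le
  rcases eq_or_lt_of_le hs1 with rfl | hs1'
  · rw [hs, qb, if_pos (by norm_num)] at hqb
    exact Or.inl (hρ.rq_index.le one_pos (by omega))
  obtain rfl : s = 2 := by omega
  have := hρ.fitting_normal
  obtain ⟨φ, hker, hpow, -⟩ := hρ.exists_act
  letI : CommGroup (FitQ ρ) :=
    { (inferInstance : Group (FitQ ρ)) with mul_comm := hρ.fitQ_comm }
  have : Fact (Nat.Prime 2) := ⟨Nat.prime_two⟩
  obtain ⟨g, hg⟩ := hρ.exists_end_two (i := 2) (N := 2) hs le_rfl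
  have h6 := card_dvd_GL g hg
  simp only [Fin.prod_univ_two, Fin.val_zero, Fin.val_one] at h6
  norm_num at h6
  replace h6 : (fittingSubgroup H).index ∣ 6 := h6
  have hidx : (scalars ρ).index = 4 * (fittingSubgroup H).index := by
    rw [hρ.index_scalars_eq, hs]
  have h2 : (fittingSubgroup H).index ≠ 2 := fun h => by
    have htop := hρ.quot_no_two (i := 2) hs ⊤ inferInstance
      ((IsPGroup.of_card (n := 1) (by rw [pow_one]; exact h) :
        IsPGroup 2 (H ⧸ fittingSubgroup H)).to_subgroup ⊤)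
    have : Nat.card (⊤ : Subgroup (H ⧸ fittingSubgroup H)) = 1 := by rw [htop, Subgroup.card_bot]
    rw [Subgroup.card_top, show Nat.card (H ⧸ fittingSubgroup H) = 2 from h] at this
    omega
  have hle := Nat.le_of_dvd (by norm_num) h6
  obtain ⟨n, hn⟩ : ∃ n, n = (fittingSubgroup H).index := ⟨_, rfl⟩
  rw [← hn] at h6 hidx h2 hle
  interval_cases n <;> try omega
  · exact Or.inl (hρ.rq_index.le one_pos (by omega))
  · left
    obtain ⟨e, he, heZ, he2⟩ := hρ.exists_fitting_prime Nat.prime_two (by rw [hs]; norm_num)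
    obtain ⟨h, hhF, hh3⟩ := hρ.exists_lift_prime Nat.prime_three (by rw [hs]; norm_num)
      (by rw [← hn])
    have hw := hρ.weights_le he heZ he2 hhF hh3 (be := 2) (bh := 1) (bo := 2) (L := 2) (j := 0)
      ((gcd_dvd_gcd_left _ _ _).trans (Nat.gcd_dvd_right _ _)) dvd_rfl
      ((gcd_dvd_gcd_left _ _ _).trans (by rw [hd]; norm_num)) (one_dvd _)
      ((Nat.gcd_dvd_left _ _).trans hd.dvd) dvd_rfl (by norm_num) (Or.inr rfl)
    exact (hρ.rq_of_count hw).le (by norm_num) (by omega)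
  · exact Or.inr ⟨by omega, hρ.deg_two_six hd hs hn.symm⟩

end IsPrim

end CfsgLib.ClassLowerSharp
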