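import Mathlib
import Cfsg.Agent.Lib.ClassLower.ClassCount
import Cfsg.Agent.Lib.SolvableStructure.MinimalNormal

/-!
Orders of solvable groups with at most six classes, crudely.
-/

set_option autoImplicit false

namespace CfsgLib.ClassLowerSharp

open Subgroup CfsgLib.ClassLower

universe u

/-- Classes inside a normal subgroup and classes of a quotient over a larger one, with the
case of a single class inside. -/
theorem exists_orbit_count_full {G : Type u} [Group G] [Finite G] (N M : Subgroup G) [N.Normal]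
    [M.Normal] (hNM : N ≤ M) :
    ∃ o, Nat.card N - 1 ≤ o * (centralizer (N : Set G)).index ∧
      Nat.card (ConjClasses (G ⧸ M)) + o ≤ Nat.card (ConjClasses G) ∧
      (o ≤ 1 → ∀ x ∈ N, ∀ y ∈ N, x ≠ 1 → y ≠ 1 → IsConj x y) := by
  classical
  have : Fintype G := Fintype.ofFinite G
  let π : ConjClasses G → ConjClasses (G ⧸ M) := ConjClasses.map (QuotientGroup.mk' M)
  have hπ : Function.Surjective π := ConjClasses.map_surjective (QuotientGroup.mk'_surjective M)
  let s : ConjClasses (G ⧸ M) → ConjClasses G :=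
    fun c => if c = ConjClasses.mk 1 then ConjClasses.mk 1 else Function.surjInv hπ c
  have hs : ∀ c, π (s c) = c := by
    intro c
    by_cases h : c = ConjClasses.mk 1
    · simp only [s, if_pos h]
      rw [h]
      rfl
    · simp only [s, if_neg h]
      exact Function.surjInv_eq hπ c
  let N0 : Finset G := {x | x ∈ N ∧ x ≠ 1}
  have hN0 : N0.card = Nat.card N - 1 := by
    have h : N0 = ({x | x ∈ N} : Finset G).erase 1 := by
      ext x; simp [N0, and_comm]
    rw [h, Finset.card_erase_of_mem (by simp [one_mem]), Nat.card_eq_fintype_card,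
      Fintype.card_subtype]
  refine ⟨(N0.image ConjClasses.mk).card, ?_, ?_, fun ho x hx y hy hx1 hy1 => ?_⟩
  · rw [← hN0, mul_comm]
    refine Finset.card_le_mul_card_image N0 _ fun c hc => ?_
    obtain ⟨x, hx, rfl⟩ := Finset.mem_image.mp hc
    have hxN : x ∈ N := (Finset.mem_filter.mp hx).2.1
    refine le_trans ?_ (Nat.le_of_dvd (Nat.pos_of_ne_zero Subgroup.index_ne_zero_of_finite)
      (Subgroup.index_dvd_of_le (Subgroup.centralizer_le (Set.singleton_subset_iff.mpr hxN))))
    have hor : Nat.card (MulAction.orbit (ConjAct G) x) =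
        (Subgroup.centralizer ({x} : Set G)).index := by
      rw [Nat.card_coe_set_eq, ← MulAction.index_stabilizer, ConjAct.stabilizer_eq_centralizer]
      rfl
    rw [← hor, ← Fintype.card_coe, ← Nat.card_eq_fintype_card]
    refine Nat.card_le_card_of_injective
      (fun a => (⟨a.1, ConjAct.mem_orbit_conjAct.mpr (ConjClasses.mk_eq_mk_iff_isConj.mp
        (Finset.mem_filter.mp a.2).2)⟩ : MulAction.orbit (ConjAct G) x))
      fun a b h => Subtype.ext (congrArg Subtype.val h :)
  · rw [← Fintype.card_coe (N0.image ConjClasses.mk),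
      ← Nat.card_eq_fintype_card (α := (N0.image ConjClasses.mk : Finset (ConjClasses G))),
      ← Nat.card_sum]
    refine Nat.card_le_card_of_injective
      (Sum.elim s (fun c : (N0.image ConjClasses.mk : Finset (ConjClasses G)) => c.1)) ?_
    refine Function.Injective.sumElim (fun a b h => by rw [← hs a, h, hs]) Subtype.val_injective
      fun a b h => ?_
    obtain ⟨x, hx, hxb⟩ := Finset.mem_image.mp b.2
    obtain ⟨hxN, hx1⟩ := (Finset.mem_filter.mp hx).2
    rw [← hxb] at h
    have ha : a = ConjClasses.mk 1 := by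
      rw [← hs a, h]
      show ConjClasses.mk ((x : G) : G ⧸ M) = _
      rw [(QuotientGroup.eq_one_iff x).mpr (hNM hxN)]
    simp only [s, if_pos ha] at h
    obtain ⟨g, hg⟩ := isConj_iff.mp (ConjClasses.mk_eq_mk_iff_isConj.mp h)
    rw [mul_one, mul_inv_cancel] at hg
    exact hx1 hg.symm

  · exact ConjClasses.mk_eq_mk_iff_isConj.mp (Finset.card_le_one.mp ho _
      (Finset.mem_image_of_mem _ (Finset.mem_filter.mpr ⟨Finset.mem_univ _, hx, hx1⟩)) _
      (Finset.mem_image_of_mem _ (Finset.mem_filter.mpr ⟨Finset.mem_univ _, hy, hy1⟩)))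

/-- Classes inside a normal subgroup and classes of a quotient over a larger one. -/
theorem exists_orbit_count' {G : Type u} [Group G] [Finite G] (N M : Subgroup G) [N.Normal]
    [M.Normal] (hNM : N ≤ M) :
    ∃ o, Nat.card N - 1 ≤ o * (centralizer (N : Set G)).index ∧
      Nat.card (ConjClasses (G ⧸ M)) + o ≤ Nat.card (ConjClasses G) := by
  obtain ⟨o, h1, h2, -⟩ := exists_orbit_count_full N M hNM
  exact ⟨o, h1, h2⟩

/-- A crude bound on the order of a solvable group with at most `k` classes, `k ≤ 6`. -/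
def landau : ℕ → ℕ
  | 0 => 0
  | 1 => 1
  | 2 => 2
  | 3 => 6
  | 4 => 42
  | 5 => 1806
  | _ => 3263442

theorem landau_step {j k : ℕ} (hj : 1 ≤ j) (hjk : j < k) (hk : k ≤ 6) :
    landau j * (1 + (k - j) * landau j) ≤ landau k := by
  interval_cases k <;> interval_cases j <;> simp [landau]

theorem landau_mono {j k : ℕ} (hjk : j ≤ k) (hk : k ≤ 6) : landau j ≤ landau k := by
  interval_cases k <;> interval_cases j <;> simp [landau]

theorem card_le_landau (n : ℕ) : ∀ (G : Type u) [Group G] [Finite G] [Group.IsSolvable G],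
    Nat.card G = n → ∀ k, k ≤ 6 → Nat.card (ConjClasses G) ≤ k → Nat.card G ≤ landau k := by
  induction n using Nat.strong_induction_on with
  | _ n IH =>
  intro G _ _ _ hn k hk hkG
  have hk1 : 1 ≤ k := le_trans (@Nat.card_pos _ ⟨ConjClasses.mk 1⟩ _) hkG
  rcases subsingleton_or_nontrivial G with h | h
  · rw [Nat.card_unique]
    exact le_trans (by simp [landau]) (landau_mono hk1 hk)
  obtain ⟨N, -, hN, hN1, hmin⟩ :=
    CfsgLib.SolvableStructure.exists_minimal_normal (N := (⊤ : Subgroup G)) inferInstance top_ne_bot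
  have := hN
  have hcomm := CfsgLib.SolvableStructure.isMulCommutative_of_minimal_normal hN1 hmin
  have hNC : N ≤ centralizer (N : Set G) :=
    CfsgLib.SolvableStructure.le_centralizer_of_isMulCommutative N
  obtain ⟨o, ho1, ho2⟩ := exists_orbit_count' N N le_rfl
  have hsplit := card_eq_card_quotient_mul_card_subgroup N
  have hN2 : 2 ≤ Nat.card N :=
    Finite.one_lt_card_iff_nontrivial.mpr ((Subgroup.nontrivial_iff_ne_bot _).mpr hN1)
  have hq : 0 < Nat.card (G ⧸ N) := Nat.card_pos
  have hlt : Nat.card (G ⧸ N) < n := by rw [← hn, hsplit]; nlinarith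
  have hidx : (centralizer (N : Set G)).index ≤ Nat.card (G ⧸ N) :=
    Nat.le_of_dvd hq (index_dvd_of_le hNC)
  obtain ⟨j, hj⟩ : ∃ j, j = Nat.card (ConjClasses (G ⧸ N)) := ⟨_, rfl⟩
  have hj1 : 1 ≤ j := hj ▸ @Nat.card_pos _ ⟨ConjClasses.mk 1⟩ _
  have hopos : 1 ≤ o := by
    by_contra! hc
    interval_cases o
    omega
  have hjk : j < k := by omega
  have hM : Nat.card (G ⧸ N) ≤ landau j := IH _ hlt (G ⧸ N) rfl j (by omega) (by rw [hj])
  have hNb : Nat.card N ≤ 1 + (k - j) * landau j := by
    have h1 : o * (centralizer (N : Set G)).index ≤ (k - j) * landau j :=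
      Nat.mul_le_mul (by omega) (hidx.trans hM)
    omega
  rw [hsplit]
  exact (Nat.mul_le_mul hM hNb).trans (landau_step hj1 hjk hk)

end CfsgLib.ClassLowerSharp
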