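import Mathlib
import Cfsg.Agent.Lib.ClassLowerSharp.DegTwo
import Cfsg.Agent.Lib.ClassLowerSharp.Landau

/-!
Primitive solvable linear groups of degree three, four and eight.
-/

set_option autoImplicit false
set_option linter.style.haveILetI false
set_option linter.unusedSectionVars false

namespace CfsgLib.ClassLowerSharp

open Module Cfsg CfsgLib.ClassLower
open scoped commutatorElement

universe u v w

theorem qb_sixty_four : qb 64 = 132120576 := by
  rw [qb_eq_gqf (f := 7) (by norm_num) (by norm_num)]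
  decide +kernel

namespace IsPrim

variable {k : Type w} [Field k] {H : Type u} [Group H] [Finite H] {V : Type v} [AddCommGroup V]
  [Module k V] {ρ : H →* Module.End k V} (hρ : IsPrim ρ)
include hρ

theorem index_le_qb_value {N : ℕ} (hN : (scalars ρ).relIndex (fittingSubgroup H) = N) :
    (scalars ρ).index ≤ qb N := hN ▸ hρ.index_scalars_le

/-- Degree three. -/
theorem deg_three [FiniteDimensional k V] (hd : finrank k V = 3) {p : ℕ} (hp : 11 ≤ p) :
    RQ H (59 * p) 10 := by
  classical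
  obtain ⟨s, hs, hs1, hs2, hs3⟩ := hρ.relIndex_facts
  rw [hd] at hs2 hs3
  rcases eq_or_lt_of_le hs1 with rfl | hs1'
  · have hqb := hρ.index_le_qb_value hs
    rw [qb, if_pos (by norm_num)] at hqb
    exact hρ.rq_index.le one_pos (by omega)
  obtain rfl : s = 3 := by
    have h2 : s ≠ 2 := fun h => by
      have := hs3 2 (by rw [h, Nat.Prime.primeFactors Nat.prime_two]; exact Finset.mem_singleton_self 2)
      omega
    omega
  have := hρ.fitting_normal
  have : Fact (Nat.Prime 3) := ⟨Nat.prime_three⟩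
  obtain ⟨φ, hker, hpow, -⟩ := hρ.exists_act
  letI : CommGroup (FitQ ρ) :=
    { (inferInstance : Group (FitQ ρ)) with mul_comm := hρ.fitQ_comm }
  set F := fittingSubgroup H with hF
  have hexp : ∀ a : FitQ ρ, a ^ 3 = 1 := fun a => by
    obtain ⟨a, rfl⟩ := QuotientGroup.mk_surjective a
    exact (hpow a 3).mpr (hρ.pow_prime_mem Nat.prime_three hs a.2)
  obtain ⟨g, hg⟩ := exists_hom_end (q := 3) hexp (N := 2)
    (by rw [show Nat.card (FitQ ρ) = 3 * 3 from hs]; norm_num)
  let ψ : H ⧸ F →* MulAut (FitQ ρ) := QuotientGroup.lift _ φ (fun x hx => by rwa [hker])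
  have hψ : Function.Injective ψ := by
    rw [injective_iff_map_eq_one]
    intro q hq
    obtain ⟨x, rfl⟩ := QuotientGroup.mk_surjective q
    refine (QuotientGroup.eq_one_iff x).mpr ?_
    rw [hF, ← hker]
    exact MonoidHom.mem_ker.mpr hq
  have h48 : F.index ∣ 48 := by
    have := card_dvd_GL (g.comp ψ) (hg.comp hψ)
    change Nat.card (H ⧸ F) ∣ 48
    simpa [Fin.prod_univ_two] using this
  have hidx : (scalars ρ).index = 9 * F.index := by rw [hρ.index_scalars_eq, hs]
  have hX24 : F.index ≤ 24 := by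
    have h := hρ.index_le_qb_value hs
    rw [qb_eq_gqf (f := 4) (by norm_num) (by norm_num),
      show (3 * 3 : ℕ) * ((3 * 3 - 1) * gqf 4 (3 * 3 / radical' (3 * 3))) = 216 by decide +kernel,
      hidx] at h
    omega
  obtain ⟨e, he, heZ, he3⟩ := hρ.exists_fitting_prime Nat.prime_three (by rw [hs]; norm_num)
  rcases Nat.lt_or_ge F.index 2 with hX1 | hX2
  · exact hρ.rq_index.le one_pos (by omega)
  rcases Nat.lt_or_ge 12 F.index with hXb | hXs
  swap
  · obtain ⟨h, hh⟩ : ∃ h, h ∉ F := by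
      by_contra! hall
      rw [show F = ⊤ from (Subgroup.eq_top_iff' F).mpr hall, Subgroup.index_top] at hX2
      omega
    have hw := hρ.weights_le he heZ he3 hh (o := Nat.card H)
      (by rw [pow_card_eq_one']; exact one_mem _) (be := 3) (bh := 3) (bo := 3) (L := 3) (j := 0)
      ((gcd_dvd_gcd_left _ _ _).trans (Nat.gcd_dvd_right _ _)) dvd_rfl
      ((gcd_dvd_gcd_left _ _ _).trans ((Nat.gcd_dvd_left _ _).trans hd.dvd)) dvd_rfl
      ((Nat.gcd_dvd_left _ _).trans hd.dvd) dvd_rfl (by norm_num) (Or.inr rfl)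
    exact (hρ.rq_of_count hw).le (by norm_num) (by omega)
  -- an element of order four
  have : Fact (Nat.Prime 2) := ⟨Nat.prime_two⟩
  obtain ⟨P⟩ : Nonempty (Sylow 2 (H ⧸ F)) := inferInstance
  have hPdvd : 8 ∣ Nat.card (P : Subgroup (H ⧸ F)) := by
    have h8 : 2 ^ 3 ∣ Nat.card (H ⧸ F) := by
      show 8 ∣ F.index
      have hmem : F.index ∈ Nat.divisors 48 := Nat.mem_divisors.mpr ⟨h48, by norm_num⟩
      rw [show Nat.divisors 48 = {1, 2, 3, 4, 6, 8, 12, 16, 24, 48} by decide +kernel] at hmem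
      simp only [Finset.mem_insert, Finset.mem_singleton] at hmem
      omega
    exact P.pow_dvd_card_of_pow_dvd_card h8
  obtain ⟨a, ha⟩ : ∃ a : (P : Subgroup (H ⧸ F)), a * a ≠ 1 := by
    by_contra! hall
    have := card_le_four_of_involutions hall ((g.comp ψ).comp (P : Subgroup (H ⧸ F)).subtype)
      ((hg.comp hψ).comp Subtype.val_injective)
    have := Nat.le_of_dvd Nat.card_pos hPdvd
    omega
  obtain ⟨i, hi⟩ := IsPGroup.iff_orderOf.mp P.isPGroup' a
  have hi2 : 2 ≤ i := by
    by_contra! hi2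
    refine ha ?_
    rw [← pow_two, ← orderOf_dvd_iff_pow_eq_one, hi]
    interval_cases i <;> norm_num
  obtain ⟨v, hv⟩ := QuotientGroup.mk_surjective ((a : H ⧸ F) ^ 2 ^ (i - 2))
  have hv4 : orderOf (v : H ⧸ F) = 4 := by
    rw [hv, orderOf_pow' _ (pow_ne_zero _ two_ne_zero), Subgroup.orderOf_coe, hi,
      Nat.gcd_eq_right (pow_dvd_pow 2 (Nat.sub_le i 2)), Nat.pow_div (Nat.sub_le i 2) two_pos,
      show i - (i - 2) = 2 by omega]
    norm_num
  have hv4F : v ^ 4 ∈ F := by
    rw [← QuotientGroup.eq_one_iff, QuotientGroup.mk_pow, ← hv4, pow_orderOf_eq_one]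
  set h := v ^ 9 with hh
  have hmk : (h : H ⧸ F) = v := by
    rw [hh, QuotientGroup.mk_pow, ← pow_mod_orderOf, hv4]
    norm_num
  have hh4 : h ^ 4 ∈ scalars ρ := by
    have e : h ^ 4 = (v ^ 4) ^ 9 := by rw [hh, ← pow_mul, ← pow_mul]
    rw [e]
    refine (hpow ⟨_, hv4F⟩ 9).mp ?_
    rw [show (9 : ℕ) = 3 * 3 by norm_num, pow_mul, hexp]
  have hhF : h ∉ F := fun hc => by
    rw [← QuotientGroup.eq_one_iff, hmk] at hc
    rw [hc, orderOf_one] at hv4; norm_num at hv4
  have hh2F : h ^ 2 ∉ F := fun hc => by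
    rw [← QuotientGroup.eq_one_iff, QuotientGroup.mk_pow, hmk, ← orderOf_dvd_iff_pow_eq_one,
      hv4] at hc
    norm_num at hc
  have hh4F : h ^ 4 ∈ F := hρ.scalars_le_fitting hh4
  have he2F : e ^ 2 ∈ F := pow_mem he 2
  replace he : e ∈ F := he
  let f : Fin 4 → H := ![1, e, h, h ^ 2]
  let b : Fin 4 → ℕ := ![1, 3, 1, 1]
  have hroot : ∀ i (g' z : H) (c : k), ρ z = c • 1 → g' * f i * g'⁻¹ = f i * z → c ^ b i = 1 := by
    intro i g' z c hz hg'
    have key : ∀ {x : H} {o m : ℕ}, x ^ o ∈ scalars ρ → Nat.gcd 3 o ∣ m →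
        g' * x * g'⁻¹ = x * z → c ^ m = 1 := by
      intro x o m ho hm hx
      obtain ⟨j, hj⟩ := ((gcd_dvd_gcd_left (finrank k V) (Nat.card (scalars ρ)) o).trans
        (hd ▸ hm : Nat.gcd (finrank k V) o ∣ m))
      rw [hj, pow_mul, hρ.pow_eq_one_of_conj hz hx ho, one_pow]
    fin_cases i <;> simp only [f, b, Fin.reduceFinMk, Matrix.cons_val] at hg' ⊢
    · exact key (o := 1) (by rw [one_pow]; exact one_mem _) (by norm_num) hg'
    · exact key (o := 3) he3 (by norm_num) hg'
    · exact key (o := 4) hh4 (by norm_num) hg'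
    · exact key (o := 2) (by rw [← pow_mul]; exact hh4) (by norm_num) hg'
  have hne : ∀ i j, i ≠ j → ∀ g' : H, (f j)⁻¹ * (g' * f i * g'⁻¹) ∉ scalars ρ := by
    intro i j hij g' hc
    have i0 := hρ.mem_iff_of_conj hc (scalars ρ) inferInstance le_rfl 1
    have i1 := hρ.mem_iff_of_conj hc F inferInstance hρ.scalars_le_fitting 1
    have i2 := hρ.mem_iff_of_conj hc F inferInstance hρ.scalars_le_fitting 2
    have hh4' : (h ^ 2) ^ 2 ∈ F := by rw [← pow_mul]; exact hh4F
    fin_cases i <;> fin_cases j <;>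
      simp only [f, Fin.isValue, Fin.reduceFinMk, Matrix.cons_val, pow_one, one_pow, one_mem, heZ,
        he, he2F, hhF, hh2F, hh4', iff_false, iff_true, not_true_eq_false] at hij i0 i1 i2 <;>
      exact hij rfl
  have h0 := hρ.card_mul_sum_le f b 3 (fun i => by fin_cases i <;> simp [b])
    (fun i => by fin_cases i <;> simp [b]) hroot hne
  have hsum : ∑ i, 3 / b i = 10 := by simp [b, Fin.sum_univ_four]
  rw [hsum] at h0
  exact (hρ.rq_of_count h0).le (by norm_num) (by omega)

/-- An odd prime divisor of the index of the Fitting subgroup. -/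
theorem exists_odd_prime {i : ℕ} (hN : (scalars ρ).relIndex (fittingSubgroup H) = 2 ^ i)
    (hX : 2 ≤ (fittingSubgroup H).index) :
    ∃ q : ℕ, q.Prime ∧ q ≠ 2 ∧ q ∣ (fittingSubgroup H).index := by
  have := hρ.fitting_normal
  by_contra! hall
  have hpow := Nat.eq_prime_pow_of_unique_prime_dvd (p := 2)
    (Subgroup.index_ne_zero_of_finite (H := fittingSubgroup H))
    fun {d} hd hdvd => by by_contra h; exact hall d hd h hdvd
  have : Fact (Nat.Prime 2) := ⟨Nat.prime_two⟩
  have htop := hρ.quot_no_two hN ⊤ inferInstance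
    ((IsPGroup.of_card hpow : IsPGroup 2 (H ⧸ fittingSubgroup H)).to_subgroup ⊤)
  have : Nat.card (⊤ : Subgroup (H ⧸ fittingSubgroup H)) = 1 := by rw [htop, Subgroup.card_bot]
  rw [Subgroup.card_top] at this
  change (fittingSubgroup H).index = 1 at this
  omega

/-- Degree four. -/
theorem deg_four [FiniteDimensional k V] (hd : finrank k V = 4) {p : ℕ} (hp : 11 ≤ p) :
    RQ H (59 * p ^ 2) 10 := by
  classical
  have hp2 : 121 ≤ p ^ 2 := Nat.pow_le_pow_left hp 2
  obtain ⟨s, hs, hs1, hs2, hs3⟩ := hρ.relIndex_facts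
  rw [hd] at hs2 hs3
  have hs3' : s ≠ 3 := fun h => by
    have := hs3 3 (by rw [h, Nat.Prime.primeFactors Nat.prime_three]; exact Finset.mem_singleton_self 3)
    omega
  rcases Nat.lt_or_ge s 4 with h4 | h4
  · have hqb := hρ.index_le_qb_value hs
    have : qb (s * s) ≤ 24 := by
      interval_cases s
      · decide +kernel
      · decide +kernel
      · exact absurd rfl hs3'
    exact hρ.rq_index.le one_pos (by omega)
  obtain rfl : s = 4 := by omega
  have := hρ.fitting_normal
  have hs' : (scalars ρ).relIndex (fittingSubgroup H) = 2 ^ 4 := by rw [hs]; norm_num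
  obtain ⟨f, hf⟩ := hρ.exists_end_two hs' (N := 4) le_rfl
  have := hρ.solv
  have h144 := card_le_of_four f hf (hρ.quot_no_two hs')
  replace h144 : (fittingSubgroup H).index ≤ 144 := h144
  have hidx : (scalars ρ).index = 16 * (fittingSubgroup H).index := by
    rw [hρ.index_scalars_eq, hs]
  rcases Nat.lt_or_ge (fittingSubgroup H).index 2 with hX1 | hX2
  · exact hρ.rq_index.le one_pos (by omega)
  obtain ⟨e, he, heZ, he2⟩ := hρ.exists_fitting_prime Nat.prime_two (by rw [hs]; norm_num)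
  obtain ⟨q, hq, hq2, hqd⟩ := hρ.exists_odd_prime hs' hX2
  have hcop : Nat.Coprime q 2 := (Nat.coprime_primes hq Nat.prime_two).mpr hq2
  obtain ⟨h, hhF, hho⟩ := hρ.exists_lift_prime hq
    (by rw [hs']; exact hcop.pow_right 4) hqd
  have hbh : Nat.gcd (Nat.gcd (finrank k V) (Nat.card (scalars ρ))) q ∣ 1 :=
    (gcd_dvd_gcd_left _ _ _).trans (by
      rw [hd, Nat.gcd_comm, show (4 : ℕ) = 2 ^ 2 by norm_num, (hcop.pow_right 2).gcd_eq_one])
  rcases Nat.lt_or_ge 110 (fittingSubgroup H).index with hb | hsm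
  · have hk : 3 + 2 ≤ Nat.card (ConjClasses (H ⧸ fittingSubgroup H)) := by
      by_contra! hk
      have := card_le_landau _ (H ⧸ fittingSubgroup H) rfl 4 (by norm_num) (by omega)
      change (fittingSubgroup H).index ≤ 42 at this
      omega
    have hw := hρ.weights_le he heZ he2 hhF hho (be := 2) (bh := 1) (bo := 4) (L := 4) (j := 3)
      ((gcd_dvd_gcd_left _ _ _).trans (Nat.gcd_dvd_right _ _)) (by norm_num) hbh (one_dvd _)
      ((Nat.gcd_dvd_left _ _).trans hd.dvd) dvd_rfl (by norm_num) (Or.inl hk)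
    exact (hρ.rq_of_count hw).le (by norm_num) (by omega)
  · have hw := hρ.weights_le he heZ he2 hhF hho (be := 2) (bh := 1) (bo := 4) (L := 4) (j := 0)
      ((gcd_dvd_gcd_left _ _ _).trans (Nat.gcd_dvd_right _ _)) (by norm_num) hbh (one_dvd _)
      ((Nat.gcd_dvd_left _ _).trans hd.dvd) dvd_rfl (by norm_num) (Or.inr rfl)
    exact (hρ.rq_of_count hw).le (by norm_num) (by omega)

/-- Degree eight. -/
theorem deg_eight [FiniteDimensional k V] (hd : finrank k V = 8) {p : ℕ} (hp : 11 ≤ p) :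
    RQ H (59 * p ^ 6) 10 ∨ ((scalars ρ).index ≤ 132120576 ∧ 2 ∣ Nat.card (scalars ρ) ∧
      Nat.card (scalars ρ) * 23 ≤ 8 * Nat.card (ConjClasses H) ∧
      (Nat.card (scalars ρ) = 2 → 8 ≤ Nat.card (ConjClasses H))) := by
  classical
  have hp6 : 11 ^ 6 ≤ p ^ 6 := Nat.pow_le_pow_left hp 6
  obtain ⟨s, hs, hs1, hs2, hs3⟩ := hρ.relIndex_facts
  rw [hd] at hs2 hs3
  have hqb := hρ.index_le_qb_value hs
  rcases Nat.lt_or_ge s 8 with h8 | h8
  · left
    have hbad : ∀ q, q.Prime → q ≠ 2 → ¬ q ∣ s := fun q hq hq2 h => hq2 <| by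
      have := hs3 q (Nat.mem_primeFactors.mpr ⟨hq, h, by omega⟩)
      exact (Nat.prime_dvd_prime_iff_eq hq Nat.prime_two).mp
        (hq.dvd_of_dvd_pow (show q ∣ 2 ^ 3 from this))
    have : qb (s * s) ≤ 15360 := by
      have b3 := hbad 3 (by norm_num) (by norm_num)
      have b5 := hbad 5 (by norm_num) (by norm_num)
      have b7 := hbad 7 (by norm_num) (by norm_num)
      interval_cases s
      · decide +kernel
      · decide +kernel
      · exact absurd dvd_rfl b3
      · decide +kernel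
      · exact absurd dvd_rfl b5
      · exact absurd (by norm_num) b3
      · exact absurd dvd_rfl b7
    exact hρ.rq_index.le one_pos (by omega)
  obtain rfl : s = 8 := by omega
  have := hρ.fitting_normal
  have hs' : (scalars ρ).relIndex (fittingSubgroup H) = 2 ^ 6 := by rw [hs]; norm_num
  rw [show (8 * 8 : ℕ) = 64 by norm_num, qb_sixty_four] at hqb
  have hidx : (scalars ρ).index = 64 * (fittingSubgroup H).index := by
    rw [hρ.index_scalars_eq, hs]
  by_cases hk : 3 + 2 ≤ Nat.card (ConjClasses (H ⧸ fittingSubgroup H))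
  swap
  · left
    have := hρ.solv
    have := card_le_landau _ (H ⧸ fittingSubgroup H) rfl 4 (by norm_num) (by omega)
    change (fittingSubgroup H).index ≤ 42 at this
    exact hρ.rq_index.le one_pos (by omega)
  right
  have hX2 : 2 ≤ (fittingSubgroup H).index := by
    by_contra! h
    have h1 : Nat.card (H ⧸ fittingSubgroup H) ≤ 1 := by
      show (fittingSubgroup H).index ≤ 1
      omega
    have : Nat.card (ConjClasses (H ⧸ fittingSubgroup H)) ≤ 1 :=
      (Nat.card_le_card_of_surjective _ ConjClasses.mk_surjective).trans h1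
    omega
  obtain ⟨e, he, heZ, he2⟩ := hρ.exists_fitting_prime Nat.prime_two (by rw [hs]; norm_num)
  obtain ⟨q, hq, hq2, hqd⟩ := hρ.exists_odd_prime hs' hX2
  have hcop : Nat.Coprime q 2 := (Nat.coprime_primes hq Nat.prime_two).mpr hq2
  obtain ⟨h, hhF, hho⟩ := hρ.exists_lift_prime hq
    (by rw [hs']; exact hcop.pow_right 6) hqd
  have hbh : Nat.gcd (Nat.gcd (finrank k V) (Nat.card (scalars ρ))) q ∣ 1 :=
    (gcd_dvd_gcd_left _ _ _).trans (by
      rw [hd, Nat.gcd_comm, show (8 : ℕ) = 2 ^ 3 by norm_num, (hcop.pow_right 3).gcd_eq_one])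
  refine ⟨hqb, ?_, ?_, fun hz => ?_⟩
  · obtain ⟨a, ha, hne⟩ : ∃ a ∈ fittingSubgroup H, a * e ≠ e * a := by
      by_contra! hall
      exact heZ (hρ.centralizer_fitting_le (Subgroup.mem_centralizer_iff.mpr hall))
    obtain ⟨c, hc⟩ := hρ.commutator_mem ha he
    have hconj : a * e * a⁻¹ = e * ⁅a, e⁆ := by
      rw [Subgroup.mem_center_iff.mp (hρ.scalars_le_center (hρ.commutator_mem ha he)) e]
      group
    have h1 := hρ.pow_finrank_eq_one hc hconj
    have h2 : ⁅a, e⁆ ^ 8 = 1 := hρ.inj (by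
      rw [map_pow, hc, smul_pow, one_pow, ← hd, h1, one_smul, map_one])
    obtain ⟨j, -, hj⟩ := (Nat.dvd_prime_pow Nat.prime_two).mp
      (orderOf_dvd_of_pow_eq_one h2 : orderOf ⁅a, e⁆ ∣ 2 ^ 3)
    have hdz : orderOf ⁅a, e⁆ ∣ Nat.card (scalars ρ) := by
      have h3 := orderOf_dvd_natCard (⟨⁅a, e⁆, hρ.commutator_mem ha he⟩ : scalars ρ)
      rwa [← Subgroup.orderOf_coe] at h3
    refine dvd_trans ?_ hdz
    rw [hj]
    refine dvd_pow_self 2 fun hj0 => hne ?_
    rw [hj0, pow_zero, orderOf_eq_one_iff, commutatorElement_eq_one_iff_mul_comm] at hj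
    exact hj
  · have hw := hρ.weights_le he heZ he2 hhF hho (be := 2) (bh := 1) (bo := 8) (L := 8) (j := 3)
      ((gcd_dvd_gcd_left _ _ _).trans (Nat.gcd_dvd_right _ _)) (by norm_num) hbh (one_dvd _)
      ((Nat.gcd_dvd_left _ _).trans hd.dvd) dvd_rfl (by norm_num) (Or.inl hk)
    simpa using hw
  · have hw := hρ.weights_le he heZ he2 hhF hho (be := 2) (bh := 1) (bo := 2) (L := 2) (j := 3)
      ((gcd_dvd_gcd_left _ _ _).trans (Nat.gcd_dvd_right _ _)) dvd_rfl hbh (one_dvd _)
      ((Nat.gcd_dvd_right _ _).trans hz.dvd) dvd_rfl (by norm_num) (Or.inl hk)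
    rw [hz] at hw
    norm_num at hw
    omega

/-- Degrees from five, other than eight. -/
theorem deg_large [FiniteDimensional k V] {p : ℕ} (hp : 11 ≤ p) (hd5 : 5 ≤ finrank k V)
    (hd8 : finrank k V ≠ 8) : RQ H (59 * p ^ (finrank k V - 2)) 10 := by
  obtain ⟨s, hs, -, hs2, hs3⟩ := hρ.relIndex_facts
  have hqb := hρ.index_le_qb_value hs
  have := qb_sq_le hp hd5 hd8 hs2 hs3
  exact hρ.rq_index.le one_pos (by omega)

end IsPrim

end CfsgLib.ClassLowerSharp
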