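import Mathlib
import Cfsg.Agent.Lib.ClassLower.Perm
import Cfsg.Agent.Lib.ClassLowerSharp.Index

/-!
A solvable permutation group of degree `n` has order at most `3 ^ (n - 1)`.
-/

set_option autoImplicit false
set_option linter.style.haveILetI false

namespace CfsgLib.ClassLowerSharp

open Subgroup MulAction CfsgLib.ClassLower

universe u v

/-- The product `(n - 1) (n - 2) (n - 4) ...` of `l` factors. -/
def chainProd (n l : ℕ) : ℕ := ∏ i ∈ Finset.range l, (n - 2 ^ i)

theorem chainProd_le {n l : ℕ} (hn : 1 ≤ n) (hl : 2 ^ l ≤ n) :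
    n * chainProd n l ≤ 3 ^ (n - 1) := by
  have hl' : l ≤ Nat.log 2 n := Nat.le_log_of_pow_le (by norm_num) hl
  by_cases hs : n < 32
  · have h5 : l < 5 := by
      by_contra! h
      have := Nat.pow_le_pow_right (show 1 ≤ 2 by norm_num) h
      omega
    revert hl
    clear hl'
    interval_cases l <;> interval_cases n <;> simp [chainProd, Finset.prod_range_succ]
  · have hL : 5 ≤ Nat.log 2 n := Nat.le_log_of_pow_le (by norm_num) (by omega)
    set L := Nat.log 2 n with hLdef
    have h1 : n < 2 ^ (L + 1) := Nat.lt_pow_succ_log_self (by norm_num) n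
    have h2 : 2 ^ L ≤ n := Nat.pow_log_le_self 2 (by omega)
    have h3 : ∀ M, 5 ≤ M → 2 * ((M + 1) * (M + 1)) + 3 ≤ 3 * 2 ^ M := by
      intro M hM
      induction M, hM using Nat.le_induction with
      | base => norm_num
      | succ k hk ih => rw [pow_succ]; nlinarith
    have hprod : chainProd n l ≤ n ^ L := by
      refine le_trans (Finset.prod_le_prod' fun i _ => Nat.sub_le n (2 ^ i)) ?_
      rw [Finset.prod_const, Finset.card_range]
      exact Nat.pow_le_pow_right hn hl'
    have h4 : (n * chainProd n l) ^ 2 ≤ (3 ^ (n - 1)) ^ 2 :=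
      calc (n * chainProd n l) ^ 2 ≤ (n ^ (L + 1)) ^ 2 :=
            Nat.pow_le_pow_left (by rw [pow_succ']; exact Nat.mul_le_mul_left _ hprod) 2
        _ ≤ ((2 ^ (L + 1)) ^ (L + 1)) ^ 2 :=
            Nat.pow_le_pow_left (Nat.pow_le_pow_left h1.le _) 2
        _ = 2 ^ (2 * ((L + 1) * (L + 1))) := by rw [← pow_mul, ← pow_mul]; congr 1; ring
        _ ≤ 2 ^ (3 * (n - 1)) := Nat.pow_le_pow_right (by norm_num) (by
            have := h3 L hL; omega)
        _ = 8 ^ (n - 1) := by rw [pow_mul]; norm_num
        _ ≤ 9 ^ (n - 1) := Nat.pow_le_pow_left (by norm_num) _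
        _ = (3 ^ (n - 1)) ^ 2 := by rw [← pow_mul, mul_comm, pow_mul]; norm_num
    exact (Nat.pow_le_pow_iff_left (by norm_num)).mp h4

theorem card_solvable_perm_sharp_aux (n : ℕ) : ∀ (α : Type u) [Finite α], Nat.card α = n →
    ∀ T : Subgroup (Equiv.Perm α), Group.IsSolvable T → Nat.card T ≤ 3 ^ (n - 1) := by
  induction n using Nat.strong_induction_on with
  | _ n IH =>
  intro α _ hn T hT
  classical
  rcases subsingleton_or_nontrivial T with hsub | hnt
  · rw [Nat.card_unique]
    exact Nat.one_le_pow _ _ (by norm_num)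
  obtain ⟨N, hNn, hN1, hNc⟩ := exists_normal_abelian (G := T)
  obtain ⟨g0, hg0, hg01⟩ : ∃ g ∈ N, g ≠ 1 := by
    by_contra! h
    exact hN1 ((Subgroup.eq_bot_iff_forall N).mpr h)
  obtain ⟨a0, ha0⟩ : ∃ a : α, g0 • a ≠ a := by
    by_contra! h
    exact hg01 (Subtype.ext (Equiv.ext fun a => h a))
  have : Nonempty α := ⟨a0⟩
  have hn1 : 1 ≤ n := hn ▸ Nat.card_pos
  by_cases htr : ∀ b : α, b ∈ orbit N a0
  · -- transitive abelian normal subgroup
    have hfree : ∀ g ∈ N, g • a0 = a0 → g = 1 := by
      intro g hg h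
      refine Subtype.ext (Equiv.ext fun b => ?_)
      obtain ⟨⟨k, hk⟩, rfl⟩ := htr b
      show g • k • a0 = k • a0
      rw [← mul_smul, hNc g hg k hk, mul_smul, h]
    have hNcard : Nat.card N = n := by
      rw [← hn]
      refine Nat.card_eq_of_bijective (fun g : N => (g : T) • a0) ⟨fun g k h => ?_, fun b => htr b⟩
      have h1 : ((g : T)⁻¹ * k) • a0 = a0 := by
        rw [mul_smul, inv_smul_eq_iff]; exact h.symm
      exact Subtype.ext (inv_mul_eq_one.mp (hfree _ (mul_mem (inv_mem g.2) k.2) h1))
    have hC : centralizer (N : Set T) ≤ N := by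
      intro c hc
      obtain ⟨⟨k, hk⟩, hk'⟩ := htr (c • a0)
      have hkc : k • a0 = c • a0 := hk'
      suffices h : c = k by exact h ▸ hk
      refine Subtype.ext (Equiv.ext fun b => ?_)
      obtain ⟨⟨j, hj⟩, rfl⟩ := htr b
      show c • j • a0 = k • j • a0
      rw [← mul_smul, ← mul_smul, ← mem_centralizer_iff.mp hc j hj, hNc k hk j hj, mul_smul,
        mul_smul, hkc]
    have hNle : N ≤ centralizer (N : Set T) := fun a ha =>
      mem_centralizer_iff.mpr fun b hb => hNc b hb a ha
    let P : Subgroup T → Prop := fun D => D ≤ N ∧ ∃ l, 2 ^ l ≤ Nat.card D ∧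
      (centralizer (D : Set T)).index ≤ chainProd n l
    have hbase : P ⊥ := ⟨bot_le, 0, by simp, by
      have h : centralizer ((⊥ : Subgroup T) : Set T) = ⊤ :=
        centralizer_eq_top_iff_subset.mpr (bot_le : (⊥ : Subgroup T) ≤ center T)
      rw [h, index_top]; simp [chainProd]⟩
    obtain ⟨D, ⟨hDN, l, hl1, hl2⟩, hmax⟩ :=
      Set.exists_max_image {D : Subgroup T | P D} (fun D => Nat.card D) (Set.toFinite _)
        ⟨⊥, hbase⟩
    by_cases hND : N ≤ D
    · have hDeq : D = N := le_antisymm hDN hND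
      subst hDeq
      calc Nat.card T = Nat.card (centralizer (D : Set T)) * (centralizer (D : Set T)).index :=
            (card_mul_index _).symm
        _ ≤ n * chainProd n l := Nat.mul_le_mul (hNcard ▸ card_le_of_le hC) hl2
        _ ≤ _ := chainProd_le hn1 (hNcard ▸ hl1)
    exfalso
    obtain ⟨x, hxN, hxD⟩ := SetLike.not_le_iff_exists.mp hND
    have hcard : 2 * Nat.card D ≤ Nat.card (D ⊔ zpowers x : Subgroup T) :=
      mul_card_le_card_sup D x fun j h1 h2 => by
        obtain rfl : j = 1 := by omega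
        rwa [pow_one]
    have hstep := index_centralizer_step D x (s := n - Nat.card D) (by
      have hsub : Nat.card {a : T // a ∈ N ∧ a ∉ D} = n - Nat.card D := by
        rw [← hNcard]
        show Nat.card ((N : Set T) \ (D : Set T) : Set T) =
          Nat.card (N : Set T) - Nat.card (D : Set T)
        rw [Nat.card_coe_set_eq, Nat.card_coe_set_eq, Nat.card_coe_set_eq, Set.ncard_diff hDN]
      rw [← hsub]
      refine Nat.card_le_card_of_injective (fun a => (⟨a.1, ?_, ?_⟩ :
        {a : T // a ∈ N ∧ a ∉ D})) fun a b h => Subtype.ext (congrArg Subtype.val h :)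
      · obtain ⟨g, _, hg⟩ := a.2
        rw [← hg]; exact hNn.conj_mem x hxN g
      · obtain ⟨g, hg, hga⟩ := a.2
        intro haD
        refine hxD ?_
        have h1 : (a : T) * g = g * a := mem_centralizer_iff.mp hg _ haD
        have h2 : x = g⁻¹ * a * g := by rw [← hga]; group
        rw [h2, mul_assoc, h1, inv_mul_cancel_left]
        exact haD)
    have hD0 : 0 < Nat.card D := Nat.card_pos
    refine absurd (hmax _ (⟨sup_le hDN ((zpowers_le).mpr hxN), l + 1, ?_, ?_⟩ :
      P (D ⊔ zpowers x))) (not_le.mpr (lt_of_lt_of_le (by omega) hcard))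
    · rw [pow_succ']
      exact (Nat.mul_le_mul_left 2 hl1).trans hcard
    · refine hstep.trans ?_
      rw [chainProd, Finset.prod_range_succ]
      exact Nat.mul_le_mul hl2 (by omega)
  · -- the orbits of the normal subgroup
    push Not at htr
    obtain ⟨b0, hb0⟩ := htr
    let s : Setoid α := orbitRel N α
    let Ω := Quotient s
    have hmap : ∀ (g : T) (a b : α), s.r a b → s.r (g • a) (g • b) := by
      rintro g a b ⟨⟨k, hk⟩, h⟩
      refine ⟨⟨g * k * g⁻¹, hNn.conj_mem k hk g⟩, ?_⟩
      show (g * k * g⁻¹) • g • b = g • a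
      have h' : k • b = a := h
      rw [← mul_smul, inv_mul_cancel_right, mul_smul, h']
    letI : MulAction T Ω :=
      { smul := fun g q => Quotient.map (fun a => g • a) (hmap g) q
        one_smul := fun q => Quotient.inductionOn q fun a => congrArg _ (one_smul T a)
        mul_smul := fun g h q => Quotient.inductionOn q fun a => congrArg _ (mul_smul g h a) }
    let φ : T →* Equiv.Perm Ω := MulAction.toPermHom T Ω
    let mk : α → Ω := fun a => Quotient.mk s a
    let Fib : Ω → Type u := fun q => {a : α // mk a = q}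
    have : Fintype Ω := Fintype.ofFinite _
    have hsum : ∑ q, Nat.card (Fib q) = n := by
      rw [← hn, ← Nat.card_sigma]
      exact Nat.card_congr (Equiv.sigmaFiberEquiv mk)
    have hpos : ∀ q, 1 ≤ Nat.card (Fib q) := fun q => Quotient.inductionOn q fun a =>
      @Nat.card_pos _ ⟨⟨a, rfl⟩⟩ _
    have hg0a : mk (g0 • a0) = mk a0 := Quotient.sound ⟨⟨g0, hg0⟩, rfl⟩
    have h2 : 2 ≤ Nat.card (Fib (mk a0)) :=
      Finite.one_lt_card_iff_nontrivial.mpr
        ⟨⟨⟨_, rfl⟩, ⟨_, hg0a⟩, fun h => ha0 (congrArg Subtype.val h).symm⟩⟩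
    have hΩpos : 1 ≤ Nat.card Ω := @Nat.card_pos _ ⟨mk a0⟩ _
    have hΩn : Nat.card Ω < n := by
      rw [← hsum, Nat.card_eq_fintype_card, ← Finset.card_univ, Finset.card_eq_sum_ones]
      exact Finset.sum_lt_sum (fun q _ => hpos q) ⟨mk a0, Finset.mem_univ _, h2⟩
    have hfib : ∀ q, Nat.card (Fib q) < n := by
      intro q
      have hne : mk a0 ≠ mk b0 := fun h => hb0 (Setoid.symm (Quotient.exact h))
      obtain ⟨q', hq'⟩ : ∃ q', q' ≠ q := by
        by_cases h : q = mk a0
        · exact ⟨mk b0, h ▸ hne.symm⟩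
        · exact ⟨mk a0, Ne.symm h⟩
      rw [← hsum, ← Finset.add_sum_erase _ _ (Finset.mem_univ q)]
      refine Nat.lt_add_of_pos_right (Finset.sum_pos' (fun _ _ => Nat.zero_le _) ⟨q', ?_, hpos q'⟩)
      simp [hq']
    have hK : ∀ (k : φ.ker) (q : Ω) (a : α), mk a = q → mk ((k : T) • a) = q := by
      intro k q a ha
      subst ha
      exact Equiv.Perm.ext_iff.mp (MonoidHom.mem_ker.mp k.2) (mk a)
    let actF : ∀ q, MulAction φ.ker (Fib q) := fun q =>
      { smul := fun k a => ⟨(k : T) • a.1, hK k q a.1 a.2⟩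
        one_smul := fun a => Subtype.ext (one_smul T a.1)
        mul_smul := fun k j a => Subtype.ext (mul_smul (k : T) (j : T) a.1) }
    let ψ : ∀ q, φ.ker →* Equiv.Perm (Fib q) := fun q => MulAction.toPermHom φ.ker (Fib q)
    have hKle : Nat.card φ.ker ≤ ∏ q, 3 ^ (Nat.card (Fib q) - 1) := by
      refine le_trans ?_ (Finset.prod_le_prod' (f := fun q => Nat.card (ψ q).range) fun q _ => ?_)
      · rw [← Nat.card_pi]
        refine Nat.card_le_card_of_injective (fun k q => (ψ q).rangeRestrict k) fun k j h => ?_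
        refine Subtype.ext (Subtype.ext (Equiv.ext fun a => ?_))
        exact congrArg Subtype.val
          (Equiv.Perm.ext_iff.mp (congrArg Subtype.val (congrFun h (mk a))) ⟨a, rfl⟩)
      · exact IH _ (hfib q) (Fib q) rfl _
          (Group.isSolvable_of_surjective (MonoidHom.rangeRestrict_surjective (ψ q)))
    have hrange : Nat.card φ.range ≤ 3 ^ (Nat.card Ω - 1) :=
      IH _ hΩn Ω rfl _ (Group.isSolvable_of_surjective (MonoidHom.rangeRestrict_surjective φ))
    calc Nat.card T = Nat.card φ.ker * Nat.card φ.range := by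
          rw [← Subgroup.index_ker, card_mul_index]
      _ ≤ 3 ^ (∑ q, (Nat.card (Fib q) - 1)) * 3 ^ (Nat.card Ω - 1) :=
          Nat.mul_le_mul (hKle.trans (Finset.prod_pow_eq_pow_sum _ _ _).le) hrange
      _ = 3 ^ (n - 1) := by
          rw [← pow_add]
          congr 1
          have hs : ∑ q, (Nat.card (Fib q) - 1) + Nat.card Ω = n := by
            conv_rhs => rw [← hsum]
            rw [Nat.card_eq_fintype_card (α := Ω), ← Finset.card_univ, Finset.card_eq_sum_ones,
              ← Finset.sum_add_distrib]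
            exact Finset.sum_congr rfl fun q _ => Nat.sub_add_cancel (hpos q)
          omega

/-- A finite solvable group acting faithfully on a set of size `n` has order at most
`3 ^ (n - 1)`. -/
theorem card_le_three_pow_of_solvable_action {T : Type v} [Group T] [Group.IsSolvable T] {α : Type u}
    [Finite α] (φ : T →* Equiv.Perm α) (hφ : Function.Injective φ) :
    Nat.card T ≤ 3 ^ (Nat.card α - 1) := by
  have h := card_solvable_perm_sharp_aux (Nat.card α) α rfl φ.range
    (Group.isSolvable_of_surjective (MonoidHom.rangeRestrict_surjective φ))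
  rwa [← Nat.card_congr (MonoidHom.ofInjective hφ).toEquiv] at h

end CfsgLib.ClassLowerSharp
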